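import Cfsg.Agent.Classical10.NotMax.Basic
import Cfsg.Agent.MaxSub.OrthStabGL

/-!
Elements of `Ω` as matrices, and the stabiliser of a small hyperbolic plane is not maximal.
-/

set_option autoImplicit false

namespace Cfsg.Agent.NotMax

open QuadraticMap Cfsg.Agent.UnitaryOrthogonal Matrix

variable {ι : Type} [Fintype ι] [DecidableEq ι] {F : Type*} [Field F]
variable {Q : QuadraticForm F (ι → F)}

theorem omega_map_form {g : GL ι F} (hg : g ∈ Geo.omegaGL ⇑Q) (x : ι → F) :
    Q ((g : Matrix ι ι F) *ᵥ x) = Q x := by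
  obtain ⟨g₀, -, rfl⟩ := hg
  exact map_form (isometryGroupEquiv Q (f := ⇑Q) (fun _ => rfl) g₀) x

theorem omega_map_polar {g : GL ι F} (hg : g ∈ Geo.omegaGL ⇑Q) (x y : ι → F) :
    polar Q ((g : Matrix ι ι F) *ᵥ x) ((g : Matrix ι ι F) *ᵥ y) = polar Q x y := by
  simp only [polar, ← mulVec_add, omega_map_form hg]

theorem exists_omega [Finite F] (hnd : PolarND Q) (h5 : 5 ≤ Fintype.card ι) {g : orth Q}
    (hg : g ∈ eichGroup Q) :
    ∃ g' ∈ Geo.omegaGL ⇑Q, ∀ x, (g' : Matrix ι ι F) *ᵥ x = g.1 x := by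
  set ψ := isometryGroupEquiv Q (f := ⇑Q) (fun _ => rfl)
  obtain ⟨g₀, rfl⟩ := ψ.surjective g
  refine ⟨g₀.1, ⟨g₀, ?_, rfl⟩, fun x => rfl⟩
  rw [← OrthStab.commutator_eq hnd (by rwa [Module.finrank_fintype_fun_eq_card]), commutator_def,
    ← Subgroup.map_top_of_surjective ψ.toMonoidHom ψ.surjective, ← Subgroup.map_commutator] at hg
  exact (Subgroup.mem_map_iff_mem (f := ψ.toMonoidHom) ψ.injective).mp hg

/-- An Eichler transformation in `Ω`. -/
theorem exists_omega_eich [Finite F] (hnd : PolarND Q) (h5 : 5 ≤ Fintype.card ι) {u z : ι → F}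
    (hu : Q u = 0) (hz : polar Q u z = 0) :
    ∃ g ∈ Geo.omegaGL ⇑Q, ∀ x, (g : Matrix ι ι F) *ᵥ x =
      x + polar Q u x • z - polar Q z x • u - (Q z * polar Q u x) • u := by
  obtain ⟨g, hg, h⟩ := exists_omega hnd h5 (eich_mem_eichGroup (Q := Q) u z)
  exact ⟨g, hg, fun x => by rw [h, eich_apply hu hz]⟩

theorem isBilinearForm_polar : Geo.IsBilinearForm (polar ⇑Q) :=
  { add_left := polar_add_left Q
    smul_left := fun c x v => by rw [polar_smul_left, smul_eq_mul]
    add_right := fun v x y => polar_add_right Q v x y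
    smul_right := fun c v x => by rw [polar_smul_right, smul_eq_mul] }

theorem isNondegenerateForm_polar (hnd : PolarND Q) : Geo.IsNondegenerateForm (polar ⇑Q) :=
  fun v hv => by
  obtain ⟨x, hx⟩ : ∃ x, polar Q v x ≠ 0 := by
    by_contra hc
    simp only [not_exists, not_not] at hc
    exact hv (hnd v hc)
  exact ⟨⟨x, by rwa [polar_comm]⟩, x, hx⟩

theorem exists_form_one_unique [Fintype F] (hq : Fintype.card F ≤ 3) {W : Submodule F (ι → F)}
    (hdim : Module.finrank F W = 2) (hW : Geo.IsNondegenerateOn (polar ⇑Q) W)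
    (hWp : Geo.IsPlusTypeOn ⇑Q W) :
    ∃ a ∈ W, Q a = 1 ∧ ∀ x ∈ W, Q x = Q a → ∃ c : F, c • a = x := by
  obtain ⟨U, hUW, hUs, hU⟩ := hWp
  rw [hdim] at hU
  have hne : U ≠ ⊥ := fun h => by rw [h, finrank_bot] at hU; omega
  obtain ⟨u, huU, hu0⟩ := Submodule.exists_mem_ne_zero_of_ne_bot hne
  have hu := hUW huU
  have hQu : Q u = 0 := hUs u huU
  obtain ⟨y, hy, huy⟩ := (hW u hu hu0).2
  obtain ⟨v₀, hv₀, hv₀W⟩ : ∃ v₀, v₀ = (polar Q u y)⁻¹ • y ∧ v₀ ∈ W :=
    ⟨_, rfl, Submodule.smul_mem _ _ hy⟩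
  have huv₀ : polar Q u v₀ = 1 := by
    rw [hv₀, polar_smul_right, smul_eq_mul, inv_mul_cancel₀ huy]
  set v := v₀ - Q v₀ • u with hv
  have hvW : v ∈ W := sub_mem hv₀W (Submodule.smul_mem _ _ hu)
  have huu : polar Q u u = 0 := by rw [polar_self_eq, hQu, mul_zero]
  have huv : polar Q u v = 1 := by
    rw [hv, polar_sub_right, polar_smul_right, huv₀, huu, smul_zero, sub_zero]
  have hQv : Q v = 0 := by
    rw [hv, sub_eq_add_neg, ← neg_smul, form_add, form_smul, hQu, polar_smul_right,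
      polar_comm Q v₀ u, huv₀, smul_eq_mul]
    ring
  have hpair : ∀ c d : F, Q (c • u + d • v) = c * d := fun c d => by
    rw [form_add, form_smul, form_smul, hQu, hQv, polar_smul_left, polar_smul_right, huv]
    simp
  refine ⟨u + v, add_mem hu hvW, by simpa using hpair 1 1, fun x hx hQx => ?_⟩
  obtain ⟨c, d, rfl⟩ := mem_pair_of_finrank_two hdim hu hvW hu0
    (fun c hc => by simpa [← hc, polar_smul_right, huu] using huv) hx
  rw [hpair, show Q (u + v) = 1 by simpa using hpair 1 1] at hQx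
  have hc0 : c ≠ 0 := left_ne_zero_of_mul_eq_one hQx
  have hcc : c * c = 1 := by
    have h1 := FiniteField.pow_card_sub_one_eq_one c hc0
    have h2 := Fintype.one_lt_card (α := F)
    interval_cases h : Fintype.card F
    · simp at h1; simp [h1]
    · rw [← h1]; ring
  refine ⟨c, ?_⟩
  rw [smul_add, show d = c by linear_combination c * hQx - d * hcc]

/-- The stabiliser in `Ω` of a plane with a distinguished nonsingular line is not maximal. -/
theorem plane_between [Finite F] (hnd : PolarND Q) (h5 : 5 ≤ Fintype.card ι)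
    {W : Submodule F (ι → F)} (hdim : Module.finrank F W = 2)
    (hW : Geo.IsNondegenerateOn (polar ⇑Q) W) {a : ι → F} (ha : a ∈ W) (hQa : Q a ≠ 0)
    (huniq : ∀ x ∈ W, Q x = Q a → ∃ c : F, c • a = x) :
    ∃ K : Subgroup (GL ι F),
      Geo.subspaceStabilizer W ⊓ Geo.omegaGL ⇑Q < K ∧ K < Geo.omegaGL ⇑Q := by
  have hf := isBilinearForm_polar (Q := Q)
  have hn := isNondegenerateForm_polar hnd
  have ha0 : a ≠ 0 := fun h => hQa (by rw [h, map_zero])
  obtain ⟨e, he, he0, hQe⟩ := OrthStab.exists_singular_mem (Q := Q) (MaxSub.orth hf W) (by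
    have := MaxSub.finrank_orth hf hn W
    omega)
  have heW : ∀ x ∈ W, polar Q e x = 0 := fun x hx => MaxSub.mem_orth.mp he x hx
  have heW' : e ∉ W := fun h => by
    obtain ⟨x, hx, hne⟩ := (hW e h he0).2
    exact hne (heW x hx)
  obtain ⟨z, hz, haz⟩ := (hW a ha ha0).2
  obtain ⟨w, hw, hw0, haw⟩ : ∃ w ∈ W, w ≠ 0 ∧ polar Q a w = 0 := by
    by_cases h : polar Q a a = 0
    · exact ⟨a, ha, ha0, h⟩
    obtain ⟨x, hx, hxa⟩ : ∃ x ∈ W, x ∉ Submodule.span F {a} := by
      by_contra h'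
      simp only [not_exists, not_and, not_not] at h'
      have := Submodule.finrank_mono (show W ≤ Submodule.span F {a} from h')
      rw [hdim, finrank_span_singleton ha0] at this
      omega
    refine ⟨x - (polar Q a x / polar Q a a) • a, sub_mem hx (W.smul_mem _ ha), fun h' =>
      hxa (Submodule.mem_span_singleton.mpr ⟨_, (sub_eq_zero.mp h').symm⟩), ?_⟩
    rw [polar_sub_right, polar_smul_right, smul_eq_mul, div_mul_cancel₀ _ h, sub_self]
  obtain ⟨y, hy, hwy⟩ := (hW w hw hw0).2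
  obtain ⟨g, hg, hgx⟩ := exists_omega_eich hnd h5 hQe (heW w hw)
  obtain ⟨g', hg', hgx'⟩ := exists_omega_eich hnd h5 hQe (heW z hz)
  refine exists_between (Geo.subspaceStabilizer (Submodule.span F {a}) ⊓ Geo.omegaGL ⇑Q) ?_
    inf_le_right g ⟨MaxSub.mem_subspaceStabilizer fun x hx => ?_, hg⟩ ?_ g' hg' ?_
  · rintro k ⟨hk, hkΩ⟩
    refine ⟨MaxSub.mem_subspaceStabilizer fun x hx => ?_, hkΩ⟩
    obtain ⟨c, rfl⟩ := Submodule.mem_span_singleton.mp hx
    obtain ⟨d, hd⟩ := huniq _ ((hk a).mp ha) (omega_map_form hkΩ a)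
    change (k : Matrix ι ι F) *ᵥ (c • a) ∈ Submodule.span F {a}
    rw [mulVec_smul, show (k : Matrix ι ι F) *ᵥ a = d • a from hd.symm, smul_smul]
    exact Submodule.mem_span_singleton.mpr ⟨c * d, rfl⟩
  · obtain ⟨c, rfl⟩ := Submodule.mem_span_singleton.mp hx
    rw [hgx, polar_smul_right, polar_smul_right, heW a ha, polar_comm Q w a, haw]
    simpa using Submodule.smul_mem _ c (Submodule.mem_span_singleton_self a)
  · rintro ⟨hs, -⟩
    have h := (hs y).mp hy
    change (g : Matrix ι ι F) *ᵥ y ∈ W at h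
    rw [hgx, heW y hy, zero_smul, add_zero, mul_zero, zero_smul, sub_zero] at h
    have h' := W.smul_mem (polar Q w y)⁻¹ (sub_mem hy h)
    rw [sub_sub_cancel, smul_smul, inv_mul_cancel₀ hwy, one_smul] at h'
    exact heW' h'
  · rintro ⟨hs, -⟩
    have h := (hs a).mp (Submodule.mem_span_singleton_self a)
    change (g' : Matrix ι ι F) *ᵥ a ∈ Submodule.span F {a} at h
    rw [hgx', heW a ha, zero_smul, add_zero, mul_zero, zero_smul, sub_zero] at h
    have h' := Submodule.smul_mem _ (polar Q z a)⁻¹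
      (sub_mem (Submodule.mem_span_singleton_self a) h)
    rw [sub_sub_cancel, smul_smul, inv_mul_cancel₀ (by rwa [polar_comm]), one_smul] at h'
    exact heW' (Submodule.span_le.mpr (Set.singleton_subset_iff.mpr ha) h')

end Cfsg.Agent.NotMax
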