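import Cfsg.Agent.Classical10.NotMax.Frame
import Cfsg.Agent.MaxSub.Herm

/-!
Tensor decompositions with a small monomial factor: the stabiliser is not maximal.
-/

set_option autoImplicit false

namespace Cfsg.Agent.NotMax

open Matrix
open scoped Kronecker

variable {ι : Type} [Fintype ι] [DecidableEq ι] {F : Type*} [Field F]

section Model

variable {n₁ n₂ : ℕ}

/-- The pure tensor of two coordinate vectors, moved to `F^ι`. -/
def ten (e : ι ≃ Fin n₁ × Fin n₂) (P : GL ι F) :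
    (Fin n₁ → F) →ₗ[F] (Fin n₂ → F) →ₗ[F] (ι → F) :=
  LinearMap.mk₂ F
    (fun x y => (P : Matrix ι ι F) *ᵥ ((fun a : Fin n₁ × Fin n₂ => x a.1 * y a.2) ∘ e))
    (fun x x' y => by rw [← mulVec_add]; congr 1; ext i; simp [add_mul])
    (fun c x y => by rw [← mulVec_smul]; congr 1; ext i; simp [mul_assoc])
    (fun x y y' => by rw [← mulVec_add]; congr 1; ext i; simp [mul_add])
    (fun c x y => by rw [← mulVec_smul]; congr 1; ext i; simp [mul_left_comm])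

theorem ten_apply (e : ι ≃ Fin n₁ × Fin n₂) (P : GL ι F) (x : Fin n₁ → F) (y : Fin n₂ → F) :
    ten e P x y = (P : Matrix ι ι F) *ᵥ ((fun a : Fin n₁ × Fin n₂ => x a.1 * y a.2) ∘ e) := rfl

theorem exists_of_mem_tensorProductSubgroup {e : ι ≃ Fin n₁ × Fin n₂} {P g : GL ι F}
    (hg : g ∈ Geo.tensorProductSubgroup n₁ n₂ e P) :
    ∃ (A : GL (Fin n₁) F) (B : GL (Fin n₂) F), ∀ x y, (g : Matrix ι ι F) *ᵥ ten e P x y =
      ten e P ((A : Matrix _ _ F) *ᵥ x) ((B : Matrix _ _ F) *ᵥ y) := by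
  obtain ⟨g₁, ⟨k, ⟨A, B, hk⟩, rfl⟩, rfl⟩ := hg
  refine ⟨A, B, fun x y => ?_⟩
  simp only [ten_apply, MulEquiv.coe_toMonoidHom, MulAut.conj_apply, Units.val_mul]
  rw [← mulVec_mulVec, ← mulVec_mulVec, MaxSub.inv_mulVec_mulVec]
  congr 1
  show (Matrix.reindex e.symm e.symm (k : Matrix _ _ F)) *ᵥ _ = _
  rw [hk, Matrix.reindex_apply, Matrix.submatrix_mulVec_equiv]
  simp only [Equiv.symm_symm, Function.comp_assoc, Equiv.self_comp_symm, Function.comp_id]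
  congr 1
  ext ⟨i, j⟩
  simp only [mulVec, dotProduct, kroneckerMap_apply, Fintype.sum_prod_type, Finset.sum_mul_sum]
  exact Finset.sum_congr rfl fun a _ => Finset.sum_congr rfl fun b _ => by ring

/-- The form on pure tensors. -/
theorem form_ten {σ : F →+* F} {f : (ι → F) → (ι → F) → F} {f₁ : (Fin n₁ → F) → (Fin n₁ → F) → F}
    {f₂ : (Fin n₂ → F) → (Fin n₂ → F) → F} {e : ι ≃ Fin n₁ × Fin n₂} {P : GL ι F} {c : F}
    (hT : ∀ x y : Fin n₁ × Fin n₂ → F,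
      f ((P : Matrix ι ι F) *ᵥ (x ∘ e)) ((P : Matrix ι ι F) *ᵥ (y ∘ e)) =
        c * Geo.formOfGram σ (Geo.gramMatrix f₁ ⊗ₖ Geo.gramMatrix f₂) x y)
    (h₁ : ∀ x x', f₁ x x' = Geo.formOfGram σ (Geo.gramMatrix f₁) x x')
    (h₂ : ∀ x x', f₂ x x' = Geo.formOfGram σ (Geo.gramMatrix f₂) x x') (x x' : Fin n₁ → F)
    (y y' : Fin n₂ → F) : f (ten e P x y) (ten e P x' y') = c * f₁ x x' * f₂ y y' := by
  rw [ten_apply, ten_apply, hT, mul_assoc, h₁, h₂]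
  congr 1
  simp only [Geo.formOfGram, kroneckerMap_apply, Fintype.sum_prod_type, Finset.sum_mul, Finset.mul_sum]
  rw [Finset.sum_comm]
  refine Finset.sum_congr rfl fun b _ => ?_
  conv_rhs => rw [Finset.sum_comm]
  refine Finset.sum_congr rfl fun a _ => ?_
  rw [Finset.sum_comm]
  refine Finset.sum_congr rfl fun b' _ => Finset.sum_congr rfl fun a' _ => ?_
  rw [map_mul]
  ring

theorem eq_formOfGram {κ : Type} [Fintype κ] [DecidableEq κ] (σ : F →+* F)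
    {f : (κ → F) → (κ → F) → F} (hal : ∀ x y v, f (x + y) v = f x v + f y v)
    (hsl : ∀ (r : F) x v, f (r • x) v = r * f x v) (har : ∀ v x y, f v (x + y) = f v x + f v y)
    (hsr : ∀ (r : F) v x, f v (r • x) = σ r * f v x) (x x' : κ → F) :
    f x x' = Geo.formOfGram σ (Geo.gramMatrix f) x x' := by
  let L : ((κ → F)) →ₗ[F] (κ → F) →ₛₗ[σ] F :=
    LinearMap.mk₂'ₛₗ (RingHom.id F) σ f hal hsl har (fun r v x => hsr r v x)
  show L x x' = _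
  conv_lhs => rw [pi_eq_sum_univ' x, pi_eq_sum_univ' x']
  simp only [map_sum, map_smul, LinearMap.sum_apply, LinearMap.smul_apply,
    LinearMap.map_smulₛₗ, smul_eq_mul, Geo.formOfGram, Geo.gramMatrix]
  rw [Finset.sum_comm]
  refine Finset.sum_congr rfl fun b _ => ?_
  rw [Finset.mul_sum]
  exact Finset.sum_congr rfl fun a _ => by simp [L]; ring

end Model

section Core

variable {κ₁ κ₂ : Type} [Fintype κ₁] [DecidableEq κ₁] [Fintype κ₂] [DecidableEq κ₂]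

theorem tensor_between [Finite F] {f : (ι → F) → (ι → F) → F}
    (hadd : ∀ x y v, f (x + y) v = f x v + f y v)
    {f₁ : (κ₁ → F) → (κ₁ → F) → F} {f₂ : (κ₂ → F) → (κ₂ → F) → F}
    (hadd₂ : ∀ x y v, f₂ (x + y) v = f₂ x v + f₂ y v)
    (hsmul₂ : ∀ (r : F) x v, f₂ (r • x) v = r * f₂ x v) (hnd₂ : Geo.IsNondegenerateForm f₂)
    (τ : (κ₁ → F) →ₗ[F] (κ₂ → F) →ₗ[F] (ι → F)) {c : F} (hc : c ≠ 0)
    (hτ : ∀ x y x' y', f (τ x y) (τ x' y') = c * f₁ x x' * f₂ y y')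
    {T I : Subgroup (GL ι F)}
    (hI : ∀ g ∈ I, ∀ u v, f ((g : Matrix ι ι F) *ᵥ u) ((g : Matrix ι ι F) *ᵥ v) = f u v)
    (hT : ∀ g ∈ T, ∃ (A : GL κ₁ F) (B : GL κ₂ F), ∀ x y, (g : Matrix ι ι F) *ᵥ τ x y =
      τ ((A : Matrix _ _ F) *ᵥ x) ((B : Matrix _ _ F) *ᵥ y))
    (hμ : ∀ (A : GL κ₁ F) (μ : F), (∀ x x', f₁ ((A : Matrix _ _ F) *ᵥ x) ((A : Matrix _ _ F) *ᵥ x') =
      μ * f₁ x x') → μ = 1)
    {a w : κ₁ → F} (haa : f₁ a a ≠ 0) (hww : f₁ w w ≠ 0) (haw : f₁ a w = 0) (hwa : f₁ w a = 0)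
    (hS : ∀ u, f₁ u u = f₁ a a → f₁ u a = 0 ∨ ∃ r : F, r • a = u)
    {g : GL ι F} (hg : g ∈ I) (hfix : ∀ u y, f₁ u a = 0 → (g : Matrix ι ι F) *ᵥ τ u y = τ u y)
    (hmove : ∀ y, ∃ y', (g : Matrix ι ι F) *ᵥ τ a y = τ a y')
    (hne : ∃ y₀ y₁ : κ₂ → F, y₀ ≠ 0 ∧ (g : Matrix ι ι F) *ᵥ τ a y₀ = τ a y₁ ∧
      ∀ r : F, r • y₀ ≠ y₁)
    {g' : GL ι F} (hg' : g' ∈ I)
    (hne' : ∃ y₀ p q : κ₂ → F, (g' : Matrix ι ι F) *ᵥ τ a y₀ = τ a p + τ w q ∧ q ≠ 0 ∧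
      ∀ r : F, r • q ≠ p) :
    ∃ K : Subgroup (GL ι F), T ⊓ I < K ∧ K < I := by
  have hcancel : ∀ (k l : F) (y z : κ₂ → F), (∀ v, k * f₂ y v = l * f₂ z v) → k • y = l • z := by
    intro k l y z h
    by_contra hne
    obtain ⟨v, hv⟩ := (hnd₂ _ (sub_ne_zero.mpr hne)).2
    apply hv
    have h1 := hadd₂ (k • y - l • z) (l • z) v
    rw [sub_add_cancel, hsmul₂, hsmul₂, h v] at h1
    linear_combination -h1
  let S : Set (ι → F) := {v | ∃ u y, f₁ u u = f₁ a a ∧ τ u y = v}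
  refine exists_between (stabilizing (glToMat ι F) S ⊓ I) ?_ inf_le_right g
    ⟨mem_stabilizing_of_mapsTo ?_, hg⟩ ?_ g' hg' ?_
  · rintro k ⟨hk, hkI⟩
    refine ⟨mem_stabilizing_of_mapsTo ?_, hkI⟩
    rintro v ⟨u, y, hu, rfl⟩
    obtain ⟨A, B, hAB⟩ := hT k hk
    refine ⟨_, _, ?_, (hAB u y).symm⟩
    -- the scale factor of `A` is one
    obtain ⟨y₁, hy₁⟩ : ∃ y₁ : κ₂ → F, y₁ ≠ 0 := by
      obtain ⟨y₀, p, q, -, hq, -⟩ := hne'
      exact ⟨q, hq⟩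
    obtain ⟨y₂, hy⟩ := (hnd₂ y₁ hy₁).2
    have key : ∀ x x', f₁ ((A : Matrix _ _ F) *ᵥ x) ((A : Matrix _ _ F) *ᵥ x') *
        f₂ ((B : Matrix _ _ F) *ᵥ y₁) ((B : Matrix _ _ F) *ᵥ y₂) = f₁ x x' * f₂ y₁ y₂ := fun x x' => by
      have h := hI k hkI (τ x y₁) (τ x' y₂)
      rw [hAB, hAB, hτ, hτ, mul_assoc, mul_assoc] at h
      exact mul_left_cancel₀ hc h
    have hB : f₂ ((B : Matrix _ _ F) *ᵥ y₁) ((B : Matrix _ _ F) *ᵥ y₂) ≠ 0 := fun h0 => by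
      have h := key a a
      rw [h0, mul_zero] at h
      exact mul_ne_zero haa hy h.symm
    have h1 := hμ A (f₂ y₁ y₂ / f₂ ((B : Matrix _ _ F) *ᵥ y₁) ((B : Matrix _ _ F) *ᵥ y₂))
      fun x x' => by rw [div_mul_eq_mul_div, eq_div_iff hB, key, mul_comm]
    have h := key u u
    rw [← eq_div_iff hB, mul_div_assoc, h1, mul_one] at h
    rw [h, hu]
  · rintro v ⟨u, y, hu, rfl⟩
    show (g : Matrix ι ι F) *ᵥ τ u y ∈ S
    rcases hS u hu with h | ⟨r, rfl⟩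
    · exact ⟨u, y, hu, (hfix u y h).symm⟩
    · obtain ⟨y', hy'⟩ := hmove y
      exact ⟨r • a, y', hu, by rw [map_smul, LinearMap.smul_apply, LinearMap.smul_apply,
        mulVec_smul, hy']⟩
  · rintro ⟨hgT, -⟩
    obtain ⟨A, B, hAB⟩ := hT g hgT
    obtain ⟨y₀, y₁, hy₀, hy₁, hnot⟩ := hne
    have e1 : τ a y₁ = τ ((A : Matrix _ _ F) *ᵥ a) ((B : Matrix _ _ F) *ᵥ y₀) := hy₁.symm.trans (hAB _ _)
    have e2 : τ w y₀ = τ ((A : Matrix _ _ F) *ᵥ w) ((B : Matrix _ _ F) *ᵥ y₀) :=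
      (hfix w y₀ hwa).symm.trans (hAB _ _)
    have h1 := hcancel (f₁ a a) (f₁ ((A : Matrix _ _ F) *ᵥ a) a) y₁ ((B : Matrix _ _ F) *ᵥ y₀) fun v => by
      refine mul_left_cancel₀ hc ?_
      rw [← mul_assoc, ← mul_assoc, ← hτ, ← hτ, e1]
    have h2 := hcancel (f₁ w w) (f₁ ((A : Matrix _ _ F) *ᵥ w) w) y₀ ((B : Matrix _ _ F) *ᵥ y₀) fun v => by
      refine mul_left_cancel₀ hc ?_
      rw [← mul_assoc, ← mul_assoc, ← hτ, ← hτ, e2]
    have hk : f₁ ((A : Matrix _ _ F) *ᵥ w) w ≠ 0 := fun h0 => by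
      rw [h0, zero_smul, smul_eq_zero] at h2
      exact h2.elim hww hy₀
    refine hnot ((f₁ a a)⁻¹ * (f₁ ((A : Matrix _ _ F) *ᵥ a) a *
      ((f₁ ((A : Matrix _ _ F) *ᵥ w) w)⁻¹ * f₁ w w))) ?_
    rw [← smul_smul, ← smul_smul, ← smul_smul, h2, smul_smul _ _ ((B : Matrix κ₂ κ₂ F) *ᵥ y₀),
      inv_mul_cancel₀ hk, one_smul, ← h1, smul_smul, inv_mul_cancel₀ haa, one_smul]
  · rintro ⟨hs, -⟩
    obtain ⟨y₀, p, q, hpq, hq, hnot⟩ := hne'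
    obtain ⟨u, y, -, huy⟩ := (hs (τ a y₀)).1 ⟨a, y₀, rfl, rfl⟩
    change τ u y = (g' : Matrix ι ι F) *ᵥ τ a y₀ at huy
    rw [hpq] at huy
    have hp := hcancel (f₁ a a) (f₁ u a) p y fun v => by
      refine mul_left_cancel₀ hc ?_
      rw [← mul_assoc, ← mul_assoc, ← hτ, ← hτ, huy, hadd, hτ w, hwa]
      simp
    have hq' := hcancel (f₁ w w) (f₁ u w) q y fun v => by
      refine mul_left_cancel₀ hc ?_
      rw [← mul_assoc, ← mul_assoc, ← hτ, ← hτ, huy, hadd, hτ a, haw]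
      simp
    have hk : f₁ u w ≠ 0 := fun h0 => by
      rw [h0, zero_smul, smul_eq_zero] at hq'
      exact hq'.elim hww hq
    refine hnot ((f₁ a a)⁻¹ * (f₁ u a * ((f₁ u w)⁻¹ * f₁ w w))) ?_
    rw [← smul_smul, ← smul_smul, ← smul_smul, hq', smul_smul _ _ y, inv_mul_cancel₀ hk, one_smul,
      ← hp, smul_smul, inv_mul_cancel₀ haa, one_smul]

end Core

end Cfsg.Agent.NotMax
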