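import Cfsg.Prelude.Def_GeometricClasses
import Cfsg.Agent.MaxSub.Alt

/-!
Shared lemmas for showing that a stabiliser is not maximal.
-/

set_option autoImplicit false

namespace Cfsg.Agent.NotMax

open Matrix

/-- A witness for a group strictly between two others. -/
theorem exists_between {G : Type*} [Group G] {H I : Subgroup G} (K : Subgroup G) (h1 : H ≤ K)
    (h2 : K ≤ I) (x : G) (hxK : x ∈ K) (hxH : x ∉ H) (y : G) (hyI : y ∈ I) (hyK : y ∉ K) :
    ∃ K : Subgroup G, H < K ∧ K < I :=
  ⟨K, lt_of_le_of_ne h1 fun e => hxH (e ▸ hxK), lt_of_le_of_ne h2 fun e => hyK (e ▸ hyI)⟩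

variable {ι : Type} [Fintype ι] [DecidableEq ι] {F : Type*} [Field F]

theorem mulVec_mem_of_map_eq {g : GL ι F} {W W' : Submodule F (ι → F)}
    (h : W.map (Matrix.toLin' (g : Matrix ι ι F)) = W') {x : ι → F} (hx : x ∈ W) :
    (g : Matrix ι ι F) *ᵥ x ∈ W' := by
  rw [← h, ← Matrix.toLin'_apply]
  exact Submodule.mem_map_of_mem hx

theorem exists_of_map_eq {g : GL ι F} {W W' : Submodule F (ι → F)}
    (h : W.map (Matrix.toLin' (g : Matrix ι ι F)) = W') {x : ι → F} (hx : x ∈ W') :
    ∃ y ∈ W, (g : Matrix ι ι F) *ᵥ y = x := by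
  rw [← h, Submodule.mem_map] at hx
  obtain ⟨y, hy, he⟩ := hx
  exact ⟨y, hy, by rwa [← Matrix.toLin'_apply]⟩

/-- An element of the stabiliser of a decomposition maps each member into some member. -/
theorem exists_mem_of_mem_decompositionStabilizer {t : ℕ} {D : Fin t → Submodule F (ι → F)}
    {g : GL ι F} (hg : g ∈ Geo.decompositionStabilizer D) (i : Fin t) :
    ∃ j, ∀ x ∈ D i, (g : Matrix ι ι F) *ᵥ x ∈ D j := by
  obtain ⟨σ, hσ⟩ := hg
  exact ⟨σ i, fun x hx => mulVec_mem_of_map_eq (hσ i) hx⟩

/-- A vector of a member which is not orthogonal to a vector of another one forces equality. -/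
theorem index_eq_of_mem {f : (ι → F) → (ι → F) → F} {t : ℕ} {D : Fin t → Submodule F (ι → F)}
    (ho : ∀ i j, i ≠ j → Geo.AreOrthogonalFor f (D i) (D j)) {i j : Fin t} {x y : ι → F}
    (hx : x ∈ D i) (hy : y ∈ D j) (h : f x y ≠ 0) : i = j :=
  by_contra fun hij => h (ho i j hij x hx y hy)

/-- In a two-dimensional subspace two independent vectors span. -/
theorem mem_pair_of_finrank_two {W : Submodule F (ι → F)} (hW : Module.finrank F W = 2)
    {a b : ι → F} (ha : a ∈ W) (hb : b ∈ W) (h0 : a ≠ 0) (hab : ∀ c : F, c • a ≠ b) {x : ι → F}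
    (hx : x ∈ W) : ∃ c d : F, c • a + d • b = x := by
  have hli : LinearIndependent F ![a, b] := (LinearIndependent.pair_iff' h0).2 hab
  have hle : Submodule.span F ({a, b} : Set (ι → F)) ≤ W :=
    Submodule.span_le.2 (Set.insert_subset ha (Set.singleton_subset_iff.2 hb))
  have hspan := Submodule.eq_of_le_of_finrank_le hle (by
    rw [hW, ← show Module.finrank F (Submodule.span F (Set.range ![a, b])) = 2 by
      rw [finrank_span_eq_card hli, Fintype.card_fin], Matrix.range_cons, Matrix.range_cons,
      Matrix.range_empty, Set.union_empty, Set.singleton_union])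
  exact Submodule.mem_span_pair.1 (hspan ▸ hx)

theorem finrank_le_sum {t k : ℕ} {D : Fin t → Submodule F (ι → F)} (hD : Geo.IsMDecomposition k D) :
    Fintype.card ι = t * k := by
  have h := (DirectSum.isInternal_submodule_of_iSupIndep_of_iSup_eq_top hD.indep hD.iSup_eq_top)
  have hb := Module.finrank_eq_card_basis (h.collectedBasis fun i => Module.finBasis F (D i))
  rw [Module.finrank_fintype_fun_eq_card] at hb
  rw [hb]
  simp [hD.finrank_eq]

theorem zero_or_one [Fintype F] (hq : Fintype.card F = 2) (c : F) : c = 0 ∨ c = 1 := by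
  classical
  by_contra h
  rw [not_or] at h
  have := Finset.card_le_univ ({c, 0, 1} : Finset F)
  rw [hq, Finset.card_insert_of_notMem (by simp [h.1, h.2]), Finset.card_pair zero_ne_one] at this
  omega

theorem two_eq_zero [Fintype F] (hq : Fintype.card F = 2) : (2 : F) = 0 := by
  simpa [hq] using FiniteField.cast_card_eq_zero (K := F)

end Cfsg.Agent.NotMax
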