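import Cfsg.Agent.Classical10.NotMax.Char2Plane

/-!
Decompositions into four-dimensional plus spaces over two elements.
-/

set_option autoImplicit false

namespace Cfsg.Agent.NotMax

open QuadraticMap Cfsg.Agent.UnitaryOrthogonal Matrix

variable {ι : Type} [Fintype ι] [DecidableEq ι] {F : Type*} [Field F] [Fintype F]
variable {Q : QuadraticForm F (ι → F)}

/-- A minus plane `⟨a, b⟩` inside `W`, together with the two other facts used about it. -/
theorem exists_minus_plane (hq : Fintype.card F = 2) {W : Submodule F (ι → F)}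
    (hdim : Module.finrank F W = 4) (hW : Geo.IsNondegenerateOn (polar ⇑Q) W)
    (hWp : Geo.IsPlusTypeOn ⇑Q W) :
    ∃ a ∈ W, ∃ b ∈ W, ∃ z ∈ W, z ≠ 0 ∧ Q a = 1 ∧ Q b = 1 ∧ polar Q a b = 1 ∧
      polar Q z a = 0 ∧ polar Q z b = 0 ∧
      ∀ x ∈ W, Q x = 1 → polar Q x a = 0 ∧ polar Q x b = 0 ∨ x = a ∨ x = b ∨ x = a + b := by
  have h2 := two_eq_zero hq
  obtain ⟨U, hUW, hUs, hU⟩ := hWp
  rw [hdim] at hU
  have hne : U ≠ ⊥ := fun h => by rw [h, finrank_bot] at hU; omega
  obtain ⟨u₁, hu₁U, hu₁0⟩ := Submodule.exists_mem_ne_zero_of_ne_bot hne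
  have hQu₁ := hUs u₁ hu₁U
  obtain ⟨v₁, hv₁, huv₁, hQv₁⟩ := exists_hyperbolic_pair hW (hUW hu₁U) hu₁0 hQu₁
  have hsing : ∀ x ∈ U, ∀ y ∈ U, polar Q x y = 0 := fun x hx y hy => by
    simp only [polar, hUs _ (add_mem hx hy), hUs x hx, hUs y hy, sub_self]
  obtain ⟨u₂, hu₂U, hu₂0, hvu₂⟩ : ∃ u₂ ∈ U, u₂ ≠ 0 ∧ polar Q u₂ v₁ = 0 := by
    let φ : U →ₗ[F] F := (MaxSub.lmap (isBilinearForm_polar (Q := Q)) v₁).comp U.subtype
    have h := LinearMap.finrank_range_add_finrank_ker φ
    have hle : Module.finrank F (LinearMap.range φ) ≤ 1 :=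
      (Submodule.finrank_le _).trans_eq (Module.finrank_self F)
    obtain ⟨z, hz, hz0⟩ := Submodule.exists_mem_ne_zero_of_ne_bot
      (show LinearMap.ker φ ≠ ⊥ from fun e => by rw [e, finrank_bot] at h; omega)
    exact ⟨z, z.2, fun h => hz0 (Subtype.ext h), LinearMap.mem_ker.mp hz⟩
  have hQu₂ := hUs u₂ hu₂U
  have huu : polar Q u₁ u₂ = 0 := hsing _ hu₁U _ hu₂U
  have h11 : polar Q u₁ u₁ = 0 := hsing _ hu₁U _ hu₁U
  have h22 : polar Q u₂ u₂ = 0 := hsing _ hu₂U _ hu₂U
  have hvv₁ : polar Q v₁ v₁ = 0 := by rw [polar_self_eq, hQv₁, mul_zero]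
  obtain ⟨y₀, hy₀, hu₂y₀⟩ := (hW u₂ (hUW hu₂U) hu₂0).2
  obtain ⟨y, hy, hu₂y, hu₁y, hv₁y⟩ :
      ∃ y ∈ W, polar Q u₂ y = 1 ∧ polar Q u₁ y = 0 ∧ polar Q v₁ y = 0 := by
    refine ⟨y₀ + (-polar Q v₁ y₀) • u₁ + (-polar Q u₁ y₀) • v₁,
      add_mem (add_mem hy₀ (W.smul_mem _ (hUW hu₁U))) (W.smul_mem _ hv₁), ?_, ?_, ?_⟩
    · rw [polar_add_right, polar_add_right, polar_smul_right, polar_smul_right,
        polar_comm Q u₂ u₁, huu, hvu₂, smul_zero, smul_zero, add_zero, add_zero]
      exact (zero_or_one hq _).resolve_left hu₂y₀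
    · simp [polar_add_right, polar_smul_right, h11, huv₁]
    · simp [polar_add_right, polar_smul_right, polar_comm Q v₁ u₁, huv₁, hvv₁]
  obtain ⟨v₂, hv₂, huv₂, hu₁v₂, hv₁v₂, hQv₂⟩ : ∃ v₂ ∈ W,
      polar Q u₂ v₂ = 1 ∧ polar Q u₁ v₂ = 0 ∧ polar Q v₁ v₂ = 0 ∧ Q v₂ = 0 := by
    refine ⟨y + (-Q y) • u₂, add_mem hy (W.smul_mem _ (hUW hu₂U)), ?_, ?_, ?_, ?_⟩
    · rw [polar_add_right, polar_smul_right, h22, smul_zero, add_zero, hu₂y]
    · rw [polar_add_right, polar_smul_right, huu, smul_zero, add_zero, hu₁y]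
    · rw [polar_add_right, polar_smul_right, polar_comm Q v₁ u₂, hvu₂, smul_zero, add_zero, hv₁y]
    · rw [form_add, form_smul, hQu₂, polar_smul_right, polar_comm Q y u₂, hu₂y, smul_eq_mul]
      ring
  have hvv₂ : polar Q v₂ v₂ = 0 := by rw [polar_self_eq, hQv₂, mul_zero]
  have p1 : polar Q v₁ u₁ = 1 := by rw [polar_comm, huv₁]
  have p2 : polar Q v₂ u₂ = 1 := by rw [polar_comm, huv₂]
  have p3 : polar Q u₂ u₁ = 0 := by rw [polar_comm, huu]
  have p4 : polar Q v₁ u₂ = 0 := by rw [polar_comm, hvu₂]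
  have p5 : polar Q v₂ u₁ = 0 := by rw [polar_comm, hu₁v₂]
  have p6 : polar Q v₂ v₁ = 0 := by rw [polar_comm, hv₁v₂]
  set a := u₁ + v₁ with ha
  set b := u₁ + u₂ + v₂ with hb
  have hli : LinearIndependent F ![u₁, v₁, u₂, v₂] := by
    rw [Fintype.linearIndependent_iff]
    intro g hg
    simp only [Fin.sum_univ_four, Matrix.cons_val_zero, Matrix.cons_val_one,
      Matrix.cons_val] at hg
    have e1 := congrArg (fun x => polar Q x v₁) hg
    have e2 := congrArg (fun x => polar Q x u₁) hg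
    have e3 := congrArg (fun x => polar Q x v₂) hg
    have e4 := congrArg (fun x => polar Q x u₂) hg
    simp only [polar_add_left, polar_smul_left, polar_zero_left, h11, h22, hvv₁, hvv₂, huv₁, huv₂,
      huu, hvu₂, hu₁v₂, hv₁v₂, p1, p2, p3, p4, p5, p6, smul_eq_mul, mul_zero, mul_one, add_zero,
      zero_add] at e1 e2 e3 e4
    intro i
    fin_cases i <;> assumption
  have hspan : Submodule.span F (Set.range ![u₁, v₁, u₂, v₂]) = W := by
    refine Submodule.eq_of_le_of_finrank_le ?_ (by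
      rw [hdim, finrank_span_eq_card hli, Fintype.card_fin])
    rw [Submodule.span_le, Set.range_subset_iff]
    intro i
    fin_cases i <;> first | exact hUW hu₁U | exact hv₁ | exact hUW hu₂U | exact hv₂
  refine ⟨a, add_mem (hUW hu₁U) hv₁, b, add_mem (add_mem (hUW hu₁U) (hUW hu₂U)) hv₂, u₂ + v₂,
    add_mem (hUW hu₂U) hv₂, fun h => ?_, ?_, ?_, ?_, ?_, ?_, fun x hx hQx => ?_⟩
  · have := congrArg (fun x => polar Q x v₂) h
    simp [polar_add_left, huv₂, hvv₂] at this
  · rw [ha, form_add, hQu₁, hQv₁, huv₁, zero_add, zero_add]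
  · simp [hb, form_add, hQu₁, hQu₂, hQv₂, huu, polar_add_left, hu₁v₂, huv₂]
  · simp [ha, hb, polar_add_left, polar_add_right, h11, huu, hu₁v₂, p1, p4, hv₁v₂]
  · simp [ha, polar_add_left, polar_add_right, p3, hvu₂, p5, p6]
  · simp [hb, polar_add_left, polar_add_right, p3, h22, huv₂, p2, p5, hvv₂]
    linear_combination h2
  · rw [← hspan] at hx
    obtain ⟨g, rfl⟩ := (Submodule.mem_span_range_iff_exists_fun F).mp hx
    simp only [Fin.sum_univ_four, Matrix.cons_val_zero, Matrix.cons_val_one,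
      Matrix.cons_val] at hQx ⊢
    simp only [form_add, form_smul, hQu₁, hQv₁, hQu₂, hQv₂, polar_add_left, polar_smul_left,
      polar_smul_right, huv₁, huv₂, huu, hvu₂, hu₁v₂, hv₁v₂, p4, smul_eq_mul, mul_zero, mul_one,
      zero_add, add_zero] at hQx
    rcases zero_or_one hq (g 0) with h0 | h0 <;> rcases zero_or_one hq (g 1) with h1 | h1 <;>
      rcases zero_or_one hq (g 2) with h3 | h3 <;> rcases zero_or_one hq (g 3) with h4 | h4 <;>
      simp only [h0, h1, h3, h4, zero_smul, one_smul, zero_add, add_zero] at hQx ⊢ <;>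
      first
        | (exfalso; apply one_ne_zero (α := F); linear_combination hQx)
        | (exfalso; apply one_ne_zero (α := F); linear_combination -hQx)
        | (exfalso; apply one_ne_zero (α := F); linear_combination -hQx + h2)
        | (exfalso; apply one_ne_zero (α := F); linear_combination hQx - h2)
        | (exfalso; apply one_ne_zero (α := F); linear_combination -hQx + 2 * h2)
        | exact Or.inr (Or.inl rfl)
        | exact Or.inr (Or.inr (Or.inl rfl))
        | (refine Or.inl ?_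
           constructor <;>
             simp [ha, hb, polar_add_left, polar_add_right, h11, h22, hvv₁, hvv₂, huv₁, huv₂, huu,
               hvu₂, hu₁v₂, hv₁v₂, p1, p2, p3, p4, p5, p6] <;> linear_combination h2
           done)
        | (refine Or.inr (Or.inr (Or.inr ?_))
           ext j
           simp only [ha, hb, Pi.add_apply]
           linear_combination -(u₁ j) * h2)
        | (exfalso; apply one_ne_zero (α := F); linear_combination hQx + h2)
        | (exfalso; apply one_ne_zero (α := F); linear_combination -hQx)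
        | (exfalso; apply one_ne_zero (α := F); linear_combination hQx)

/-- The stabiliser is not maximal. -/
theorem four_between (hnd : PolarND Q) (hq : Fintype.card F = 2) {t : ℕ}
    {D : Fin t → Submodule F (ι → F)}
    (hD : Geo.IsNondegenerateMDecomposition (polar ⇑Q) 4 D) (ht : 3 ≤ t)
    (hp : ∀ i, Geo.IsPlusTypeOn ⇑Q (D i)) :
    ∃ K : Subgroup (GL ι F),
      Geo.decompositionStabilizer D ⊓ Geo.omegaGL ⇑Q < K ∧ K < Geo.omegaGL ⇑Q := by
  classical
  obtain ⟨hdec, hndg, ho⟩ := hD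
  have h2 := two_eq_zero hq
  have h5 : 5 ≤ Fintype.card ι := by rw [finrank_le_sum hdec]; omega
  choose a ha b hb z hz hz0 hQa hQb hab hza hzb hcl using fun i =>
    exists_minus_plane hq (hdec.finrank_eq i) (hndg i) (hp i)
  let ix : Fin 3 → Fin t := Fin.castLE ht
  have hix : Function.Injective ix := Fin.castLE_injective ht
  have haa : ∀ i j, polar Q (a i) (a j) = 0 := fun i j => by
    rcases eq_or_ne i j with rfl | h
    · rw [polar_self_eq, hQa, mul_one, h2]
    · exact ho i j h _ (ha i) _ (ha j)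
  have hbb : ∀ i j, polar Q (b i) (b j) = 0 := fun i j => by
    rcases eq_or_ne i j with rfl | h
    · rw [polar_self_eq, hQb, mul_one, h2]
    · exact ho i j h _ (hb i) _ (hb j)
  have hab' : ∀ i j, polar Q (a i) (b j) = if i = j then 1 else 0 := fun i j => by
    split_ifs with h
    · subst h; exact hab i
    · exact ho i j h _ (ha i) _ (hb j)
  have hba' : ∀ i j, polar Q (b i) (a j) = if j = i then 1 else 0 := fun i j => by
    rw [polar_comm, hab']
  set e := a (ix 0) + a (ix 1) with he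
  set e' := b (ix 0) + b (ix 1) with he'
  have hQe : Q e = 0 := by rw [he, form_add, hQa, hQa, haa]; linear_combination h2
  have hQe' : Q e' = 0 := by rw [he', form_add, hQb, hQb, hbb]; linear_combination h2
  have hee : polar Q e e' = 0 := by
    simp [he, he', polar_add_left, polar_add_right, hab', hix.eq_iff]
    linear_combination h2
  obtain ⟨g, hg, hgx⟩ := exists_omega_eich hnd h5 hQe hee
  have hgval : ∀ x, (g : Matrix ι ι F) *ᵥ x = x + polar Q e x • e' - polar Q e' x • e := fun x => by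
    rw [hgx, hQe', zero_mul, zero_smul, sub_zero]
  have hxx : ∀ x : ι → F, x + x = 0 := fun x => funext fun j => by
    simp only [Pi.add_apply, Pi.zero_apply]; linear_combination (x j) * h2
  have hswap : ∀ k l : Fin 3, k = 0 ∧ l = 1 ∨ k = 1 ∧ l = 0 →
      (g : Matrix ι ι F) *ᵥ a (ix k) = a (ix l) ∧ (g : Matrix ι ι F) *ᵥ b (ix k) = b (ix l) := by
    intro k l hkl
    have h1 : polar Q e (a (ix k)) = 0 := by simp [he, polar_add_left, haa]
    have h3 : polar Q e' (b (ix k)) = 0 := by simp [he', polar_add_left, hbb]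
    have h4 : polar Q e' (a (ix k)) = 1 := by
      rcases hkl with ⟨rfl, -⟩ | ⟨rfl, -⟩ <;> simp [he', polar_add_left, hba', hix.eq_iff]
    have h6 : polar Q e (b (ix k)) = 1 := by
      rcases hkl with ⟨rfl, -⟩ | ⟨rfl, -⟩ <;> simp [he, polar_add_left, hab', hix.eq_iff]
    rw [hgval, hgval, h1, h3, h4, h6, zero_smul, zero_smul, one_smul, one_smul]
    rcases hkl with ⟨rfl, rfl⟩ | ⟨rfl, rfl⟩ <;> constructor <;> ext j <;>
      simp only [he, he', Pi.add_apply, Pi.sub_apply, Pi.zero_apply] <;>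
      first
        | linear_combination -(a (ix 1) j) * h2
        | linear_combination (b (ix 0) j) * h2
        | linear_combination -(a (ix 0) j) * h2
        | linear_combination (b (ix 1) j) * h2
  obtain ⟨g₁, hg₁, hg₁a⟩ := OrthStab.exists_eich_map_of_form_eq hnd
    (by rw [Module.finrank_fintype_fun_eq_card]; exact h5) (a := a (ix 0))
    (d := a (ix 0) + a (ix 1) + a (ix 2))
    (fun h => one_ne_zero (α := F) (by rw [← hQa (ix 0), h, map_zero]))
    (fun h => one_ne_zero (α := F) (by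
      have h' := congrArg (fun x => polar Q x (b (ix 0))) h
      simpa [polar_add_left, hab', hix.eq_iff] using h'))
    (by simp [form_add, hQa, polar_add_left, haa]; first | linear_combination h2 | linear_combination -h2)
  obtain ⟨g', hg', hg'x⟩ := exists_omega hnd h5 hg₁
  refine exists_between
    (stabilizing (glToMat ι F) {v | (∃ i, v ∈ D i) ∧ Q v = 1} ⊓ Geo.omegaGL ⇑Q)
    omega_mem_inf_stabilizing inf_le_right g ⟨mem_stabilizing_of_mapsTo ?_, hg⟩ ?_ g' hg' ?_
  · rintro x ⟨⟨i, hi⟩, hQx⟩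
    refine ⟨?_, by rw [omega_map_form hg, hQx]⟩
    have hk : (polar Q x (a (ix 0)) = 0 ∧ polar Q x (b (ix 0)) = 0 ∨
        ∃ j, (g : Matrix ι ι F) *ᵥ x ∈ D j) ∧ (polar Q x (a (ix 1)) = 0 ∧
        polar Q x (b (ix 1)) = 0 ∨ ∃ j, (g : Matrix ι ι F) *ᵥ x ∈ D j) := by
      have key : ∀ k l : Fin 3, k = 0 ∧ l = 1 ∨ k = 1 ∧ l = 0 →
          (polar Q x (a (ix k)) = 0 ∧ polar Q x (b (ix k)) = 0 ∨
            ∃ j, (g : Matrix ι ι F) *ᵥ x ∈ D j) := fun k l hkl => by
        by_cases h : i = ix k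
        · subst h
          obtain ⟨hga, hgb⟩ := hswap k l hkl
          rcases hcl (ix k) x hi hQx with h | rfl | rfl | rfl
          · exact Or.inl h
          · exact Or.inr ⟨ix l, hga ▸ ha _⟩
          · exact Or.inr ⟨ix l, hgb ▸ hb _⟩
          · exact Or.inr ⟨ix l, by rw [mulVec_add, hga, hgb]; exact add_mem (ha _) (hb _)⟩
        · exact Or.inl ⟨ho _ _ h x hi _ (ha _), ho _ _ h x hi _ (hb _)⟩
      exact ⟨key 0 1 (by decide), key 1 0 (by decide)⟩
    obtain ⟨⟨p0, q0⟩ | h, ⟨p1, q1⟩ | h'⟩ := hk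
    rotate_right
    · exact h'
    · refine ⟨i, ?_⟩
      rw [hgval, polar_comm, polar_comm Q e' x, he, he', polar_add_right, polar_add_right, p0, p1,
        q0, q1, add_zero, zero_smul, zero_smul, add_zero, sub_zero]
      exact hi
    all_goals first | exact h | exact h'
  · rintro ⟨hd, -⟩
    obtain ⟨j, hj⟩ := exists_mem_of_mem_decompositionStabilizer hd (ix 0)
    have h1 := hj _ (ha (ix 0))
    rw [(hswap 0 1 (by decide)).1] at h1
    have h3 := hj _ (hz (ix 0))
    have hne : ix 0 ≠ ix 1 := hix.ne (by decide)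
    rw [hgval, polar_comm, polar_comm Q e', he, he', polar_add_right, polar_add_right, hza, hzb,
      ho _ _ hne _ (hz _) _ (ha _), ho _ _ hne _ (hz _) _ (hb _), add_zero, zero_smul, zero_smul,
      add_zero, sub_zero] at h3
    obtain ⟨y, hy, hzy⟩ := (hndg (ix 0) _ (hz _) (hz0 _)).2
    have e0 := index_eq_of_mem ho h3 hy hzy
    have e1 := index_eq_of_mem ho h1 (hb (ix 1)) (by rw [hab]; exact one_ne_zero)
    exact absurd (hix (e0.symm.trans e1)) (by decide)
  · rintro ⟨hs, -⟩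
    obtain ⟨⟨j, hj⟩, -⟩ := (hs (a (ix 0))).1 ⟨⟨ix 0, ha _⟩, hQa _⟩
    change (g' : Matrix ι ι F) *ᵥ a (ix 0) ∈ D j at hj
    rw [hg'x, hg₁a] at hj
    have e1 := index_eq_of_mem ho hj (hb (ix 1)) (by simp [polar_add_left, hab', hix.eq_iff])
    have e2 := index_eq_of_mem ho hj (hb (ix 2)) (by simp [polar_add_left, hab', hix.eq_iff])
    exact absurd (hix (e1.symm.trans e2)) (by decide)

end Cfsg.Agent.NotMax
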