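import Cfsg.Agent.Classical10.NotMax.Frame

/-!
Decompositions into plus planes over two or four elements.
-/

set_option autoImplicit false

namespace Cfsg.Agent.NotMax

open QuadraticMap Cfsg.Agent.UnitaryOrthogonal Matrix

variable {ι : Type} [Fintype ι] [DecidableEq ι] {F : Type*} [Field F]
variable {Q : QuadraticForm F (ι → F)}

theorem exists_hyperbolic_pair {W : Submodule F (ι → F)}
    (hW : Geo.IsNondegenerateOn (polar ⇑Q) W) {u : ι → F} (hu : u ∈ W) (hu0 : u ≠ 0)
    (hQu : Q u = 0) : ∃ v ∈ W, polar Q u v = 1 ∧ Q v = 0 := by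
  obtain ⟨y, hy, huy⟩ := (hW u hu hu0).2
  obtain ⟨w, hw, hwW⟩ : ∃ w, w = (polar Q u y)⁻¹ • y ∧ w ∈ W := ⟨_, rfl, W.smul_mem _ hy⟩
  have huw : polar Q u w = 1 := by
    rw [hw, polar_smul_right, smul_eq_mul, inv_mul_cancel₀ huy]
  refine ⟨w + (-Q w) • u, add_mem hwW (W.smul_mem _ hu), ?_, ?_⟩
  · rw [polar_add_right, polar_smul_right, polar_self_eq, hQu, mul_zero, smul_zero, add_zero, huw]
  · rw [form_add, form_smul, hQu, polar_smul_right, polar_comm Q w u, huw, smul_eq_mul]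
    ring

theorem char2_plane_between [Finite F] (hnd : PolarND Q) (h2 : (2 : F) = 0) {t : ℕ}
    {D : Fin t → Submodule F (ι → F)}
    (hD : Geo.IsNondegenerateMDecomposition (polar ⇑Q) 2 D) (ht : 4 ≤ t)
    (hp : ∀ i, Geo.IsPlusTypeOn ⇑Q (D i)) (R : AddSubgroup F)
    (hR : ∀ r : F, r ≠ 0 → r + r⁻¹ ∈ R) (hR01 : ∀ r ∈ R, r = 0 ∨ r = 1)
    {c₀ : F} (hc₀ : c₀ ∉ R) :
    ∃ K : Subgroup (GL ι F),
      Geo.decompositionStabilizer D ⊓ Geo.omegaGL ⇑Q < K ∧ K < Geo.omegaGL ⇑Q := by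
  classical
  obtain ⟨hdec, hndg, ho⟩ := hD
  have h5 : 5 ≤ Fintype.card ι := by rw [finrank_le_sum hdec]; omega
  have hpair : ∀ i, ∃ u ∈ D i, ∃ v ∈ D i, u ≠ 0 ∧ polar Q u v = 1 ∧ Q u = 0 ∧ Q v = 0 := fun i => by
    obtain ⟨U, hUW, hUs, hU⟩ := hp i
    rw [hdec.finrank_eq] at hU
    have hne : U ≠ ⊥ := fun h => by rw [h, finrank_bot] at hU; omega
    obtain ⟨u, huU, hu0⟩ := Submodule.exists_mem_ne_zero_of_ne_bot hne
    obtain ⟨v, hv, huv, hQv⟩ := exists_hyperbolic_pair (hndg i) (hUW huU) hu0 (hUs u huU)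
    exact ⟨u, hUW huU, v, hv, hu0, huv, hUs u huU, hQv⟩
  choose u hu v hv hu0 huv hQu hQv using hpair
  let a : Fin t → ι → F := fun i => u i + v i
  have haD : ∀ i, a i ∈ D i := fun i => add_mem (hu i) (hv i)
  let S : Set (ι → F) := {x | (∃ i, x ∈ D i) ∧ Q x = 1}
  have hQpair : ∀ i (c d : F), Q (c • u i + d • v i) = c * d := fun i c d => by
    rw [form_add, form_smul, form_smul, hQu, hQv, polar_smul_left, polar_smul_right, huv]
    simp
  have hQa : ∀ i, Q (a i) = 1 := fun i => by simpa using hQpair i 1 1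
  have haS : ∀ i, a i ∈ S := fun i => ⟨⟨i, haD i⟩, hQa i⟩
  have huu : ∀ i, polar Q (u i) (u i) = 0 := fun i => by rw [polar_self_eq, hQu, mul_zero]
  have hvv : ∀ i, polar Q (v i) (v i) = 0 := fun i => by rw [polar_self_eq, hQv, mul_zero]
  have hvu : ∀ i, polar Q (v i) (u i) = 1 := fun i => by rw [polar_comm]; exact huv i
  -- the vectors of value one
  have hS : ∀ x ∈ S, ∃ i c, c ≠ (0 : F) ∧ x = c • u i + c⁻¹ • v i := by
    rintro x ⟨⟨i, hi⟩, hQx⟩
    obtain ⟨c, d, rfl⟩ := mem_pair_of_finrank_two (hdec.finrank_eq i) (hu i) (hv i) (hu0 i)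
      (fun c hc => by simpa [← hc, polar_smul_right, huu] using huv i) hi
    rw [hQpair] at hQx
    exact ⟨i, c, left_ne_zero_of_mul_eq_one hQx, by rw [eq_inv_of_mul_eq_one_right hQx]⟩
  have hSS : ∀ x ∈ S, ∀ y ∈ S, polar Q x y ∈ R := by
    intro x hx y hy
    obtain ⟨i, c, hc, rfl⟩ := hS x hx
    obtain ⟨j, d, hd, rfl⟩ := hS y hy
    by_cases hij : i = j
    · subst hij
      have h := hR (c * d⁻¹) (mul_ne_zero hc (inv_ne_zero hd))
      simp only [polar_add_left, polar_add_right, polar_smul_left, polar_smul_right, huu, hvv, huv,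
        hvu, smul_eq_mul, mul_zero, mul_one, zero_add, add_zero]
      rw [_root_.mul_inv_rev, inv_inv] at h
      convert h using 1
      ring
    · have h0 := ho i j hij _ (add_mem (Submodule.smul_mem _ c (hu i))
        (Submodule.smul_mem _ c⁻¹ (hv i))) _ (add_mem (Submodule.smul_mem _ d (hu j))
        (Submodule.smul_mem _ d⁻¹ (hv j)))
      rw [h0]
      exact zero_mem R
  set V₀ := AddSubgroup.closure S with hV₀
  have hV₀R : ∀ y ∈ S, ∀ x ∈ V₀, polar Q x y ∈ R := fun y hy x hx => by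
    induction hx using AddSubgroup.closure_induction with
    | mem x hx => exact hSS x hx y hy
    | zero => rw [polar_zero_left]; exact zero_mem R
    | add x z _ _ hx hz => rw [polar_add_left]; exact add_mem hx hz
    | neg x _ hx => rw [polar_neg_left]; exact neg_mem hx
  let ix : Fin 4 → Fin t := Fin.castLE ht
  have hix : Function.Injective ix := Fin.castLE_injective ht
  have haa : ∀ i j, polar Q (a i) (a j) = 0 := fun i j => by
    rcases eq_or_ne i j with rfl | h
    · rw [polar_self_eq, hQa, mul_one, h2]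
    · exact ho i j h _ (haD i) _ (haD j)
  have hau : ∀ i j, polar Q (a i) (u j) = if i = j then 1 else 0 := fun i j => by
    split_ifs with h
    · subst h
      rw [show a i = u i + v i from rfl, polar_add_left, huu, hvu, zero_add]
    · exact ho i j h _ (haD i) _ (hu j)
  set e := a (ix 0) + a (ix 1) with he
  set w := a (ix 2) + a (ix 3) with hw
  have hsum0 : ∀ i j, Q (a i + a j) = 0 := fun i j => by
    rw [form_add, hQa, hQa, haa]
    linear_combination h2
  have hew : polar Q e w = 0 := by simp [he, hw, polar_add_left, polar_add_right, haa]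
  obtain ⟨g, hg, hgx⟩ := exists_omega_eich hnd h5 (hsum0 _ _ : Q e = 0) hew
  obtain ⟨g', hg', hgx'⟩ := exists_omega_eich hnd h5 (hQu (ix 0))
    (ho _ _ (hix.ne (show (0 : Fin 4) ≠ 1 by decide)) _ (hu (ix 0)) _ (hu (ix 1)))
  refine exists_between (stabilizing (glToMat ι F) (V₀ : Set (ι → F)) ⊓ Geo.omegaGL ⇑Q) ?_
    inf_le_right g ⟨mem_stabilizing_of_mapsTo ?_, hg⟩ ?_ g' hg' ?_
  · rintro k hk
    refine ⟨mem_stabilizing_of_mapsTo fun x hx => ?_, hk.2⟩
    have hto : ∀ y ∈ S, (k : Matrix ι ι F) *ᵥ y ∈ S := fun y hy =>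
      ((omega_mem_inf_stabilizing (ε := (1 : F)) hk).1 y).1 hy
    induction hx using AddSubgroup.closure_induction with
    | mem x hx => exact AddSubgroup.subset_closure (hto x hx)
    | zero => rw [mulVec_zero]; exact zero_mem V₀
    | add x z _ _ hx hz => rw [mulVec_add]; exact add_mem hx hz
    | neg x _ hx => rw [mulVec_neg]; exact neg_mem hx
  · intro x hx
    have hsm : ∀ r ∈ R, ∀ y ∈ V₀, r • y ∈ V₀ := fun r hr y hy => by
      rcases hR01 r hr with rfl | rfl
      · rw [zero_smul]; exact zero_mem V₀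
      · rwa [one_smul]
    have hmem : ∀ i j, a i + a j ∈ V₀ := fun i j =>
      add_mem (AddSubgroup.subset_closure (haS i)) (AddSubgroup.subset_closure (haS j))
    have hR' : ∀ i j, polar Q (a i + a j) x ∈ R := fun i j => by
      rw [polar_comm, polar_add_right]
      exact add_mem (hV₀R _ (haS i) x hx) (hV₀R _ (haS j) x hx)
    show (g : Matrix ι ι F) *ᵥ x ∈ V₀
    rw [hgx, show Q w = 0 from hsum0 _ _, zero_mul, zero_smul, sub_zero]
    exact sub_mem (add_mem hx (hsm _ (hR' _ _) _ (hmem _ _))) (hsm _ (hR' _ _) _ (hmem _ _))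
  · rintro ⟨hd, -⟩
    obtain ⟨j, hj⟩ := exists_mem_of_mem_decompositionStabilizer hd (ix 0)
    have h := hj _ (hu (ix 0))
    have hev : polar Q e (u (ix 0)) = 1 := by simp [he, polar_add_left, hau, hix.eq_iff]
    have hwv : polar Q w (u (ix 0)) = 0 := by simp [hw, polar_add_left, hau, hix.eq_iff]
    rw [hgx, hev, hwv, show Q w = 0 from hsum0 _ _, zero_mul] at h
    simp only [zero_smul, one_smul, sub_zero] at h
    have hjk : ∀ k : Fin 4, k = 2 ∨ k = 3 → j = ix k := fun k hk => by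
      have hmem : u (ix 0) + w ∈ D j := h
      refine index_eq_of_mem ho hmem (hu (ix k)) ?_
      rw [polar_add_left, ho _ _ (hix.ne (show (0 : Fin 4) ≠ k by rcases hk with rfl | rfl <;> decide))
        _ (hu _) _ (hu _)]
      rcases hk with rfl | rfl <;> simp [hw, polar_add_left, hau, hix.eq_iff]
    exact absurd (hix ((hjk 2 (Or.inl rfl)).symm.trans (hjk 3 (Or.inr rfl)))) (by decide)
  · rintro ⟨hs, -⟩
    have hc0 : c₀ ≠ 0 := fun h => hc₀ (h ▸ zero_mem R)
    set y := c₀⁻¹ • u (ix 0) + c₀⁻¹⁻¹ • v (ix 0) with hy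
    have hyS : y ∈ S := ⟨⟨ix 0, add_mem (Submodule.smul_mem _ _ (hu _))
      (Submodule.smul_mem _ _ (hv _))⟩, by rw [hy, hQpair, mul_inv_cancel₀ (inv_ne_zero hc0)]⟩
    have h := (hs (a (ix 1))).1 (AddSubgroup.subset_closure (haS _))
    change (g' : Matrix ι ι F) *ᵥ a (ix 1) ∈ V₀ at h
    have hb : polar Q (u (ix 0)) (a (ix 1)) = 0 := by
      rw [polar_comm, hau, if_neg (hix.ne (by decide))]
    rw [hgx', hb, polar_comm Q (u (ix 1)), hau, if_pos rfl, zero_smul, add_zero, mul_zero,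
      zero_smul, sub_zero, one_smul] at h
    have h' := hV₀R y hyS _ h
    have hyD : y ∈ D (ix 0) := add_mem (Submodule.smul_mem _ _ (hu _)) (Submodule.smul_mem _ _ (hv _))
    rw [polar_sub_left, ho _ _ (hix.ne (show (1 : Fin 4) ≠ 0 by decide)) _ (haD _) y hyD, hy,
      polar_add_right, polar_smul_right, polar_smul_right,
      huu, huv, smul_zero, zero_add, inv_inv, smul_eq_mul, mul_one, zero_sub] at h'
    exact hc₀ (by simpa using neg_mem h')

end Cfsg.Agent.NotMax
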