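import Cfsg.Agent.Classical10.NotMax.Orth

/-!
Stabilisers of orthogonal decompositions whose members carry a distinguished frame are not maximal.
-/

set_option autoImplicit false

namespace Cfsg.Agent.NotMax

open QuadraticMap Cfsg.Agent.UnitaryOrthogonal Matrix

variable {ι : Type} [Fintype ι] [DecidableEq ι] {F : Type*} [Field F]
variable {Q : QuadraticForm F (ι → F)}

/-- `exists_between` with the outer witness as an existential. -/
theorem exists_between' {G : Type*} [Group G] {H I : Subgroup G} (K : Subgroup G) (h1 : H ≤ K)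
    (h2 : K ≤ I) (x : G) (hxK : x ∈ K) (hxH : x ∉ H) (hy : ∃ y ∈ I, y ∉ K) :
    ∃ K : Subgroup G, H < K ∧ K < I :=
  let ⟨y, hyI, hyK⟩ := hy
  exists_between K h1 h2 x hxK hxH y hyI hyK

theorem mem_stabilizing_of_mapsTo [Finite F] {g : GL ι F} {S : Set (ι → F)}
    (h : ∀ v ∈ S, (g : Matrix ι ι F) *ᵥ v ∈ S) : g ∈ stabilizing (glToMat ι F) S := by
  intro v
  refine ⟨h v, fun hv => ?_⟩
  have hinj := MaxSub.mulVec_injective g
  have := Finite.injective_iff_surjective.mp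
    (show Function.Injective (fun w : S => (⟨_, h w w.2⟩ : S)) from fun x y e =>
      Subtype.ext (hinj (congrArg Subtype.val e)))
  obtain ⟨w, hw⟩ := this ⟨_, hv⟩
  exact hinj (congrArg Subtype.val hw) ▸ w.2

theorem omega_mem_inf_stabilizing {t : ℕ} {D : Fin t → Submodule F (ι → F)} {ε : F} [Finite F] :
    Geo.decompositionStabilizer D ⊓ Geo.omegaGL ⇑Q ≤
      stabilizing (glToMat ι F) {v | (∃ i, v ∈ D i) ∧ Q v = ε} ⊓ Geo.omegaGL ⇑Q := by
  rintro g ⟨hg, hgΩ⟩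
  refine ⟨mem_stabilizing_of_mapsTo ?_, hgΩ⟩
  rintro v ⟨⟨i, hi⟩, hv⟩
  obtain ⟨j, hj⟩ := exists_mem_of_mem_decompositionStabilizer hg i
  exact ⟨⟨j, hj v hi⟩, by rw [omega_map_form hgΩ, hv]⟩

/-- A vector `a` of `W` such that the vectors of `W` with the value of `a` not orthogonal to it
are `a` and `-a`, and a non-zero vector of `W` orthogonal to it. -/
def Good (Q : QuadraticForm F (ι → F)) (W : Submodule F (ι → F)) (a : ι → F) : Prop :=
  a ∈ W ∧ Q a ≠ 0 ∧ (∀ v ∈ W, Q v = Q a → polar Q v a = 0 ∨ v = a ∨ v = -a) ∧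
    ∃ z ∈ W, z ≠ 0 ∧ polar Q z a = 0

theorem Good.map {W W' : Submodule F (ι → F)} {a : ι → F} (h : Good Q W a)
    (he : Geo.AreIsometricFor ⇑Q W W') : ∃ a', Good Q W' a' ∧ Q a' = Q a := by
  obtain ⟨e, he⟩ := he
  obtain ⟨ha, h0, hu, z, hz, hz0, hza⟩ := h
  have hp : ∀ x y : W, polar Q (e x : ι → F) (e y : ι → F) = polar Q (x : ι → F) (y : ι → F) := by
    intro x y
    simp only [polar, ← Submodule.coe_add, ← map_add, he]
  refine ⟨(e ⟨a, ha⟩ : W'), ⟨(e ⟨a, ha⟩).2, ?_, fun v hv hQv => ?_, (e ⟨z, hz⟩ : W'),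
    (e ⟨z, hz⟩).2, fun h => hz0 ?_, ?_⟩, he _⟩
  · rw [he]; exact h0
  · obtain ⟨x, hx⟩ := e.surjective ⟨v, hv⟩
    have hxv : ((e x : W') : ι → F) = v := congrArg Subtype.val hx
    rw [← hxv, he, he] at hQv
    rw [← hxv]
    rcases hu x x.2 hQv with h | h | h
    · exact Or.inl (by rw [hp]; exact h)
    · exact Or.inr (Or.inl (by rw [show x = ⟨a, ha⟩ from Subtype.ext h]))
    · refine Or.inr (Or.inr ?_)
      rw [show x = -⟨a, ha⟩ from Subtype.ext h, map_neg]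
      rfl
  · have : e ⟨z, hz⟩ = 0 := Subtype.ext h
    rw [LinearEquiv.map_eq_zero_iff] at this
    exact congrArg Subtype.val this
  · rw [hp]; exact hza

/-- The stabiliser of an isometric decomposition with a frame is not maximal in `Ω`. -/
theorem frame_between [Finite F] (hnd : PolarND Q) (h2 : (2 : F) ≠ 0) {t k : ℕ}
    {D : Fin t → Submodule F (ι → F)} (hD : Geo.IsOrthogonalMDecomposition ⇑Q k D) (ht : 5 ≤ t)
    {i₀ : Fin t} {a₀ : ι → F} (hgood : Good Q (D i₀) a₀) (c : Fin 5 → F)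
    (hc : ∑ k, c k ^ 2 = 1) (hc1 : c 1 ≠ 0) (hc2 : c 2 ≠ 0) :
    ∃ K : Subgroup (GL ι F),
      Geo.decompositionStabilizer D ⊓ Geo.omegaGL ⇑Q < K ∧ K < Geo.omegaGL ⇑Q := by
  classical
  obtain ⟨⟨hdec, hndg, ho⟩, hiso⟩ := hD
  have h5 : 5 ≤ Fintype.card ι := by
    rw [finrank_le_sum hdec]
    exact ht.trans (Nat.le_mul_of_pos_right _ hdec.pos)
  choose a' hgood' hQa' using fun i => hgood.map (hiso i₀ i)
  set ε := Q a₀ with hε
  let ix : Fin 5 → Fin t := Fin.castLE ht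
  have hix : Function.Injective ix := Fin.castLE_injective ht
  let a : Fin 5 → ι → F := fun k => a' (ix k)
  have haD : ∀ k, a k ∈ D (ix k) := fun k => (hgood' _).1
  have hQa : ∀ k, Q (a k) = ε := fun k => hQa' _
  have hε0 : ε ≠ 0 := hgood.2.1
  have hkk : ∀ k l, polar Q (a k) (a l) = if k = l then 2 * ε else 0 := fun k l => by
    split_ifs with h
    · rw [h, polar_self_eq, hQa]
    · exact ho _ _ (hix.ne h) _ (haD k) _ (haD l)
  have hperp : ∀ i v, v ∈ D i → Q v = ε → ∀ k, polar Q v (a k) = 0 ∨ v = a k ∨ v = -a k := by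
    intro i v hv hQv k
    by_cases h : i = ix k
    · exact (hgood' (ix k)).2.2.1 v (h ▸ hv) (by rw [hQv, hQa'])
    · exact Or.inl (ho _ _ h v hv _ (haD k))
  set v₁ := a 0 - a 1 with hv₁
  set v₂ := a 1 - a 2 with hv₂
  have hQsub : ∀ k l : Fin 5, k ≠ l → Q (a k - a l) = 2 * ε := fun k l h => by
    rw [sub_eq_add_neg, form_add, QuadraticMap.map_neg, hQa, hQa, polar_neg_right, hkk, if_neg h]
    ring
  have hQv₁ : Q v₁ = 2 * ε := hQsub 0 1 (by decide)
  have hQv₂ : Q v₂ = 2 * ε := hQsub 1 2 (by decide)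
  have h2ε : (2 : F) * ε ≠ 0 := mul_ne_zero h2 hε0
  obtain ⟨g, hg, hgx⟩ := exists_omega hnd h5 (OrthStab.rf_mul_rf_mem hnd
    (by rw [Module.finrank_fintype_fun_eq_card]; exact h5) (a := v₁) (b := v₂)
    (by rw [hQv₁]; exact h2ε) (hQv₁.trans hQv₂.symm))
  have hswap : ∀ k l : Fin 5, k ≠ l → (rf Q (a k - a l)).1 (a k) = a l := fun k l h =>
    rf_sub_apply (by rw [hQa, hQa]) (by rw [hQsub k l h]; exact h2ε)
  have hswap' : ∀ k l : Fin 5, k ≠ l → (rf Q (a k - a l)).1 (a l) = a k := fun k l h => by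
    rw [rf_apply, hQsub k l h, polar_sub_left, hkk, hkk, if_neg h, if_pos rfl, zero_sub,
      mul_neg, inv_mul_cancel₀ h2ε]
    module
  have hrfix : ∀ k l x, polar Q x (a k) = 0 → polar Q x (a l) = 0 →
      (rf Q (a k - a l)).1 x = x := fun k l x h h' => rf_apply_of_polar (by
    rw [polar_sub_left, polar_comm, h, polar_comm, h', sub_zero])
  have hg0 : (g : Matrix ι ι F) *ᵥ a 0 = a 1 := by
    rw [hgx, coe_mul_apply, hrfix 1 2 _ (by simp [hkk]) (by simp [hkk]), hswap 0 1 (by decide)]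
  have hg1 : (g : Matrix ι ι F) *ᵥ a 1 = a 2 := by
    rw [hgx, coe_mul_apply, hswap 1 2 (by decide), hrfix 0 1 _ (by simp [hkk]) (by simp [hkk])]
  have hg2 : (g : Matrix ι ι F) *ᵥ a 2 = a 0 := by
    rw [hgx, coe_mul_apply, hswap' 1 2 (by decide), hswap' 0 1 (by decide)]
  have hgfix : ∀ x, polar Q x (a 0) = 0 → polar Q x (a 1) = 0 → polar Q x (a 2) = 0 →
      (g : Matrix ι ι F) *ᵥ x = x := fun x h0 h1 h2 => by
    rw [hgx, coe_mul_apply, hrfix 1 2 x h1 h2, hrfix 0 1 x h0 h1]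
  refine exists_between' (stabilizing (glToMat ι F) {v | (∃ i, v ∈ D i) ∧ Q v = ε} ⊓
      Geo.omegaGL ⇑Q) omega_mem_inf_stabilizing inf_le_right g
    ⟨mem_stabilizing_of_mapsTo ?_, hg⟩ ?_ ?_
  · rintro v ⟨⟨i, hi⟩, hv⟩
    refine ⟨?_, by rw [omega_map_form hg, hv]⟩
    rcases hperp i v hi hv 0 with h0 | rfl | rfl
    rotate_left
    · exact ⟨ix 1, hg0 ▸ haD 1⟩
    · exact ⟨ix 1, by rw [mulVec_neg, hg0]; exact neg_mem (haD 1)⟩
    rcases hperp i v hi hv 1 with h1 | rfl | rfl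
    rotate_left
    · exact ⟨ix 2, hg1 ▸ haD 2⟩
    · exact ⟨ix 2, by rw [mulVec_neg, hg1]; exact neg_mem (haD 2)⟩
    rcases hperp i v hi hv 2 with h2 | rfl | rfl
    · exact ⟨i, by rw [hgfix v h0 h1 h2]; exact hi⟩
    · exact ⟨ix 0, hg2 ▸ haD 0⟩
    · exact ⟨ix 0, by rw [mulVec_neg, hg2]; exact neg_mem (haD 0)⟩
  · rintro ⟨hd, -⟩
    obtain ⟨j, hj⟩ := exists_mem_of_mem_decompositionStabilizer hd (ix 0)
    obtain ⟨-, -, -, z, hz, hz0, hza⟩ := hgood' (ix 0)
    have h1 := hj _ (haD 0)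
    rw [hg0] at h1
    have h := hj z hz
    rw [hgfix z hza (ho _ _ (hix.ne (show (0 : Fin 5) ≠ 1 by decide)) z hz _ (haD 1))
      (ho _ _ (hix.ne (show (0 : Fin 5) ≠ 2 by decide)) z hz _ (haD 2))] at h
    obtain ⟨y, hy, hzy⟩ := (hndg (ix 0) z hz hz0).2
    have e0 := index_eq_of_mem ho h hy hzy
    have e1 := index_eq_of_mem ho h1 (haD 1) (by rw [hkk, if_pos rfl]; exact h2ε)
    exact absurd (hix (e0.symm.trans e1)) (by decide)
  · -- a vector of the same value outside the decomposition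
    set d := ∑ k, c k • a k with hd
    have hda : ∀ l, polar Q d (a l) = 2 * ε * c l := fun l => by
      rw [hd, ← MaxSub.lmap_apply (isBilinearForm_polar (Q := Q)), map_sum]
      simp [MaxSub.lmap_apply, hkk, mul_comm]
    have hQd : Q d = ε := by
      have h : polar Q d d = 2 * ε := by
        nth_rewrite 2 [hd]
        rw [← MaxSub.rmap_apply (isBilinearForm_polar (Q := Q)), map_sum]
        simp only [MaxSub.rmap_apply, polar_smul_right, hda, smul_eq_mul]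
        calc ∑ k, c k * (2 * ε * c k) = 2 * ε * ∑ k, c k ^ 2 := by
              rw [Finset.mul_sum]; exact Finset.sum_congr rfl fun k _ => by ring
          _ = 2 * ε := by rw [hc, mul_one]
      rw [polar_self_eq] at h
      exact mul_left_cancel₀ h2 h
    obtain ⟨g₁, hg₁, hg₁a⟩ := OrthStab.exists_eich_map_of_form_eq hnd
      (by rw [Module.finrank_fintype_fun_eq_card]; exact h5) (a := a 0) (d := d)
      (fun h => hε0 (by rw [← hQa 0, h, map_zero])) (fun h => hε0 (by rw [← hQd, h, map_zero]))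
      (by rw [hQa, hQd])
    obtain ⟨g', hg', hg'x⟩ := exists_omega hnd h5 hg₁
    refine ⟨g', hg', fun hK => ?_⟩
    obtain ⟨⟨j, hj⟩, -⟩ := (hK.1 (a 0)).1 ⟨⟨ix 0, haD 0⟩, hQa 0⟩
    change (g' : Matrix ι ι F) *ᵥ a 0 ∈ D j at hj
    rw [hg'x, hg₁a] at hj
    have e1 := index_eq_of_mem ho hj (haD 1) (by rw [hda]; exact mul_ne_zero h2ε hc1)
    have e2 := index_eq_of_mem ho hj (haD 2) (by rw [hda]; exact mul_ne_zero h2ε hc2)
    exact absurd (hix (e1.symm.trans e2)) (by decide)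

end Cfsg.Agent.NotMax
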