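import Cfsg.Agent.Classical10.NotMax.Frame

/-!
Frames in planes and three-spaces over the field with three elements, and in plus planes over five.
-/

set_option autoImplicit false

namespace Cfsg.Agent.NotMax

open QuadraticMap Cfsg.Agent.UnitaryOrthogonal Matrix

variable {ι : Type} [Fintype ι] [DecidableEq ι] {F : Type*} [Field F] [Fintype F]
variable {Q : QuadraticForm F (ι → F)}

theorem three_eq_zero (hq : Fintype.card F = 3) : (3 : F) = 0 := by
  simpa [hq] using FiniteField.cast_card_eq_zero (K := F)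

theorem two_ne_zero_of_three (hq : Fintype.card F = 3) : (2 : F) ≠ 0 := fun h =>
  one_ne_zero (α := F) (by linear_combination three_eq_zero hq - h)

theorem sq_eq_one_of_three (hq : Fintype.card F = 3) {c : F} (h : c ≠ 0) : c * c = 1 := by
  have := FiniteField.pow_card_sub_one_eq_one c h
  rw [hq] at this
  rw [← this]; ring

theorem eq_one_or_neg_one {c : F} (h : c * c = 1) : c = 1 ∨ c = -1 :=
  mul_self_eq_one_iff.mp h

theorem exists_anisotropic (h2 : (2 : F) ≠ 0) {W : Submodule F (ι → F)}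
    (hW : Geo.IsNondegenerateOn (polar ⇑Q) W) (h0 : W ≠ ⊥) : ∃ a ∈ W, Q a ≠ 0 := by
  by_contra hc
  simp only [not_exists, not_and, not_not] at hc
  obtain ⟨w, hw, hw0⟩ := Submodule.exists_mem_ne_zero_of_ne_bot h0
  obtain ⟨x, hx, hne⟩ := (hW w hw hw0).2
  exact hne (by simp only [polar, hc _ (add_mem hw hx), hc w hw, hc x hx, sub_self])

theorem exists_perp_in_plane (h2 : (2 : F) ≠ 0) {W : Submodule F (ι → F)}
    (hdim : Module.finrank F W = 2) (hW : Geo.IsNondegenerateOn (polar ⇑Q) W) {a : ι → F}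
    (ha : a ∈ W) (hQa : Q a ≠ 0) :
    ∃ b ∈ W, b ≠ 0 ∧ polar Q b a = 0 ∧ Q b ≠ 0 ∧ ∀ v ∈ W, ∃ c d : F, c • a + d • b = v := by
  have ha0 : a ≠ 0 := fun h => hQa (by rw [h, map_zero])
  have haa : polar Q a a ≠ 0 := by rw [polar_self_eq]; exact mul_ne_zero h2 hQa
  obtain ⟨x, hx, hxa⟩ : ∃ x ∈ W, x ∉ Submodule.span F {a} := by
    by_contra h'
    simp only [not_exists, not_and, not_not] at h'
    have := Submodule.finrank_mono (show W ≤ Submodule.span F {a} from h')
    rw [hdim, finrank_span_singleton ha0] at this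
    omega
  obtain ⟨b, hb, hbW⟩ : ∃ b, b = x - (polar Q x a / polar Q a a) • a ∧ b ∈ W :=
    ⟨_, rfl, sub_mem hx (W.smul_mem _ ha)⟩
  have hba : polar Q b a = 0 := by
    rw [hb, polar_sub_left, polar_smul_left, smul_eq_mul, div_mul_cancel₀ _ haa, sub_self]
  have hspan : ∀ v ∈ W, ∃ c d : F, c • a + d • b = v := fun v hv =>
    mem_pair_of_finrank_two hdim ha hbW ha0 (fun c hc => hxa (Submodule.mem_span_singleton.mpr
      ⟨c + polar Q x a / polar Q a a, by rw [add_smul, hc, hb, sub_add_cancel]⟩)) hv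
  have hb0 : b ≠ 0 := fun h => hxa (Submodule.mem_span_singleton.mpr
      ⟨polar Q x a / polar Q a a, (sub_eq_zero.mp (hb ▸ h)).symm⟩)
  refine ⟨b, hbW, hb0, hba, fun hQb => ?_, hspan⟩
  obtain ⟨y, hy, hne⟩ := (hW b hbW hb0).2
  obtain ⟨c, d, rfl⟩ := hspan y hy
  exact hne (by simp [hba, hQb, polar_self_eq])

theorem good_plane_three (hq : Fintype.card F = 3) {W : Submodule F (ι → F)}
    (hdim : Module.finrank F W = 2) (hW : Geo.IsNondegenerateOn (polar ⇑Q) W) :
    ∃ a, Good Q W a := by
  have h2 := two_ne_zero_of_three hq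
  have h3 := three_eq_zero hq
  obtain ⟨a, ha, hQa⟩ : ∃ a ∈ W, Q a = 1 := by
    obtain ⟨a, ha, hQa⟩ := exists_anisotropic h2 hW fun h => by
      rw [h, finrank_bot] at hdim; omega
    obtain ⟨b, hb, -, hba, hQb, -⟩ := exists_perp_in_plane h2 hdim hW ha hQa
    rcases eq_one_or_neg_one (sq_eq_one_of_three hq hQa) with h | h
    · exact ⟨a, ha, h⟩
    rcases eq_one_or_neg_one (sq_eq_one_of_three hq hQb) with h' | h'
    · exact ⟨b, hb, h'⟩
    refine ⟨b + a, add_mem hb ha, ?_⟩
    rw [form_add, h, h', hba]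
    linear_combination -h3
  obtain ⟨b, hb, hb0, hba, hQb, hspan⟩ := exists_perp_in_plane h2 hdim hW ha (by
    rw [hQa]; exact one_ne_zero)
  refine ⟨a, ha, by rw [hQa]; exact one_ne_zero, fun v hv hQv => ?_, b, hb, hb0, hba⟩
  obtain ⟨c, d, rfl⟩ := hspan v hv
  rw [form_add, form_smul, form_smul, polar_smul_left, polar_smul_right, polar_comm Q a b, hba,
    smul_zero, smul_zero, add_zero, hQa, mul_one] at hQv
  by_cases hd : d = 0
  · subst hd
    rw [zero_mul, zero_mul, add_zero] at hQv
    rcases eq_one_or_neg_one hQv with rfl | rfl <;> simp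
  refine Or.inl ?_
  rw [sq_eq_one_of_three hq hd, one_mul] at hQv
  by_cases hc : c = 0
  · simp [hc, hba]
  rw [sq_eq_one_of_three hq hc] at hQv
  exact absurd (show Q b = 0 by linear_combination hQv) hQb

theorem good_plane_five (hq : Fintype.card F = 5) {W : Submodule F (ι → F)}
    (hdim : Module.finrank F W = 2) (hW : Geo.IsNondegenerateOn (polar ⇑Q) W)
    (hWp : Geo.IsPlusTypeOn ⇑Q W) : ∃ a, Good Q W a := by
  have h5 : (5 : F) = 0 := by simpa [hq] using FiniteField.cast_card_eq_zero (K := F)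
  have h2 : (2 : F) ≠ 0 := fun h => one_ne_zero (α := F) (by linear_combination h5 - 2 * h)
  obtain ⟨U, hUW, hUs, hU⟩ := hWp
  rw [hdim] at hU
  have hne : U ≠ ⊥ := fun h => by rw [h, finrank_bot] at hU; omega
  obtain ⟨u, huU, hu0⟩ := Submodule.exists_mem_ne_zero_of_ne_bot hne
  have hu := hUW huU
  have hQu : Q u = 0 := hUs u huU
  obtain ⟨y, hy, huy⟩ := (hW u hu hu0).2
  -- `a = u + s y` with value one
  obtain ⟨v, hv, huv, hQv⟩ : ∃ v ∈ W, polar Q u v = 1 ∧ Q v = 0 := by
    obtain ⟨w, hw, hwW⟩ : ∃ w, w = (polar Q u y)⁻¹ • y ∧ w ∈ W := ⟨_, rfl, W.smul_mem _ hy⟩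
    have huw : polar Q u w = 1 := by
      rw [hw, polar_smul_right, smul_eq_mul, inv_mul_cancel₀ huy]
    refine ⟨w + (-Q w) • u, add_mem hwW (W.smul_mem _ hu), ?_, ?_⟩
    · rw [polar_add_right, polar_smul_right, polar_self_eq, hQu, mul_zero, smul_zero, add_zero, huw]
    · rw [form_add, form_smul, hQu, polar_smul_right, polar_comm Q w u, huw, smul_eq_mul]
      ring
  have hvu : polar Q v u = 1 := by rw [polar_comm, huv]
  have hpair : ∀ c d : F, Q (c • u + d • v) = c * d := fun c d => by
    rw [form_add, form_smul, form_smul, hQu, hQv, polar_smul_left, polar_smul_right, huv]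
    simp
  have hQa : Q (u + v) = 1 := by simpa using hpair 1 1
  obtain ⟨b, hb, hb0, hba, -, -⟩ := exists_perp_in_plane h2 hdim hW (add_mem hu hv)
    (by rw [hQa]; exact one_ne_zero)
  refine ⟨u + v, add_mem hu hv, by rw [hQa]; exact one_ne_zero, fun x hx hQx => ?_, b, hb, hb0, hba⟩
  obtain ⟨c, d, rfl⟩ := mem_pair_of_finrank_two hdim hu hv hu0
    (fun c hc => by simpa [← hc, polar_smul_right, polar_self_eq, hQu] using huv) hx
  rw [hpair, hQa] at hQx
  have hc : c ≠ 0 := left_ne_zero_of_mul_eq_one hQx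
  have h4 := FiniteField.pow_card_sub_one_eq_one c hc
  rw [hq] at h4
  norm_num at h4
  rcases mul_eq_zero.mp (show (c * c - 1) * (c * c + 1) = 0 by linear_combination h4) with h | h
  · have hd : d = c := by linear_combination c * hQx - d * h
    rw [hd, ← smul_add]
    rcases eq_one_or_neg_one (sub_eq_zero.mp h) with rfl | rfl
    · exact Or.inr (Or.inl (one_smul F _))
    · exact Or.inr (Or.inr (neg_one_smul F _))
  · refine Or.inl ?_
    simp only [polar_add_left, polar_add_right, polar_smul_left, huv, hvu, polar_self_eq, hQu, hQv,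
      mul_zero, smul_eq_mul, mul_one, add_zero, zero_add]
    linear_combination -c * hQx + d * h

theorem good_space_three (hq : Fintype.card F = 3) {W : Submodule F (ι → F)}
    (hdim : Module.finrank F W = 3) (hW : Geo.IsNondegenerateOn (polar ⇑Q) W) :
    ∃ a, Good Q W a := by
  classical
  have h2 := two_ne_zero_of_three hq
  have h3 := three_eq_zero hq
  obtain ⟨a, ha, hQa⟩ := exists_anisotropic h2 hW fun h => by
    rw [h, finrank_bot] at hdim; omega
  have haa : polar Q a a = 2 * Q a := polar_self_eq (Q := Q) a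
  have hz : ∀ a ∈ W, ∃ z ∈ W, z ≠ 0 ∧ polar Q z a = 0 := fun a _ => by
    let φ : W →ₗ[F] F := (MaxSub.lmap (isBilinearForm_polar (Q := Q)) a).comp W.subtype
    have h := LinearMap.finrank_range_add_finrank_ker φ
    have hle : Module.finrank F (LinearMap.range φ) ≤ 1 :=
      (Submodule.finrank_le _).trans_eq (Module.finrank_self F)
    have hne : LinearMap.ker φ ≠ ⊥ := fun e => by rw [e, finrank_bot, hdim] at h; omega
    obtain ⟨z, hz, hz0⟩ := Submodule.exists_mem_ne_zero_of_ne_bot hne
    exact ⟨z, z.2, fun h => hz0 (Subtype.ext h), LinearMap.mem_ker.mp hz⟩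
  by_cases hgood : ∀ v ∈ W, Q v = Q a → polar Q v a = 0 ∨ v = a ∨ v = -a
  · exact ⟨a, ha, hQa, hgood, hz a ha⟩
  simp only [not_forall, not_or] at hgood
  obtain ⟨v, hv, hQv, hva, hv1, hv2⟩ := hgood
  -- a singular vector orthogonal to `a`
  obtain ⟨r, hr, hr0, hQr, hra⟩ : ∃ r ∈ W, r ≠ 0 ∧ Q r = 0 ∧ polar Q r a = 0 := by
    obtain ⟨s, hs, hsv⟩ : ∃ s : F, s * s = 1 ∧ s * polar Q v a = polar Q a a := by
      have h := sq_eq_one_of_three hq hva
      refine ⟨polar Q v a * polar Q a a, ?_, by linear_combination (polar Q a a) * h⟩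
      linear_combination (polar Q a a * polar Q a a) * h + sq_eq_one_of_three hq
        (show polar Q a a ≠ 0 by rw [haa]; exact mul_ne_zero h2 hQa)
    refine ⟨s • v - a, sub_mem (W.smul_mem _ hv) ha, fun h => ?_, ?_, ?_⟩
    · rcases eq_one_or_neg_one hs with rfl | rfl
      · exact hv1 (by simpa [sub_eq_zero] using h)
      · exact hv2 (by rw [← neg_neg v, ← neg_one_smul F v, sub_eq_zero.mp h])
    · rw [sub_eq_add_neg, form_add, form_smul, QuadraticMap.map_neg, polar_neg_right,
        polar_smul_left, smul_eq_mul, hsv, hs, hQv, haa]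
      ring
    · rw [polar_sub_left, polar_smul_left, smul_eq_mul, hsv, sub_self]
  obtain ⟨y, hy, hry⟩ := (hW r hr hr0).2
  obtain ⟨y₁, hy₁, hry₁, hay₁⟩ : ∃ y₁ ∈ W, polar Q r y₁ = 1 ∧ polar Q y₁ a = 0 := by
    refine ⟨(polar Q r y)⁻¹ • (y - (polar Q y a * (polar Q a a)⁻¹) • a),
      W.smul_mem _ (sub_mem hy (W.smul_mem _ ha)), ?_, ?_⟩
    · rw [polar_smul_right, polar_sub_right, polar_smul_right, hra, smul_zero, sub_zero,
        smul_eq_mul, inv_mul_cancel₀ hry]
    · rw [polar_smul_left, polar_sub_left, polar_smul_left, smul_eq_mul, smul_eq_mul, mul_assoc,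
        inv_mul_cancel₀ (by rw [haa]; exact mul_ne_zero h2 hQa), mul_one, sub_self, mul_zero]
  have hrr : polar Q r r = 0 := by rw [polar_self_eq, hQr, mul_zero]
  obtain ⟨p, hp, hrp, hap, hQp⟩ :
      ∃ p ∈ W, polar Q r p = 1 ∧ polar Q p a = 0 ∧ Q p = 0 := by
    refine ⟨y₁ + (-Q y₁) • r, add_mem hy₁ (W.smul_mem _ hr), ?_, ?_, ?_⟩
    · rw [polar_add_right, polar_smul_right, hrr, smul_zero, add_zero, hry₁]
    · rw [polar_add_left, polar_smul_left, hra, smul_zero, add_zero, hay₁]
    · rw [form_add, form_smul, hQr, polar_smul_right, polar_comm Q y₁ r, hry₁, smul_eq_mul]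
      ring
  set ε := Q a
  have hεε : ε * ε = 1 := sq_eq_one_of_three hq hQa
  have hli : LinearIndependent F ![a, r, p] := by
    rw [Fintype.linearIndependent_iff]
    intro g hg
    simp only [Fin.sum_univ_three, Matrix.cons_val_zero, Matrix.cons_val_one,
      Matrix.cons_val] at hg
    have hA := congrArg (fun x => polar Q x a) hg
    have hR := congrArg (fun x => polar Q r x) hg
    have hP := congrArg (fun x => polar Q x p) hg
    simp only [polar_add_left, polar_add_right, polar_smul_left, polar_smul_right, polar_zero_left,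
      polar_zero_right, hra, hap, polar_comm Q r a, polar_comm Q a p, hrr, hrp, haa, smul_eq_mul,
      mul_zero, add_zero, zero_add, mul_one, polar_self_eq (Q := Q) p, hQp] at hA hR hP
    intro i
    fin_cases i
    · exact (mul_eq_zero.mp hA).resolve_right (mul_ne_zero h2 hQa)
    · exact hP
    · exact hR
  have hspan : ∀ v ∈ W, ∃ α β γ : F, α • a + β • r + γ • p = v := fun v hv => by
    have hsub : Submodule.span F (Set.range ![a, r, p]) ≤ W := by
      rw [Submodule.span_le, Set.range_subset_iff]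
      intro i
      fin_cases i <;> assumption
    have heq := Submodule.eq_of_le_of_finrank_le hsub (by
      rw [hdim, finrank_span_eq_card hli, Fintype.card_fin])
    obtain ⟨g, hg⟩ := (Submodule.mem_span_range_iff_exists_fun F).mp (heq ▸ hv)
    exact ⟨g 0, g 1, g 2, by rw [← hg, Fin.sum_univ_three]; rfl⟩
  obtain ⟨a', ha', hQa', ha'r, ha'p, ha'a⟩ : ∃ a' ∈ W, Q a' = -ε ∧ polar Q r a' = -ε ∧
      polar Q p a' = 1 ∧ polar Q a a' = 0 := by
    refine ⟨r + (-ε) • p, add_mem hr (W.smul_mem _ hp), ?_, ?_, ?_, ?_⟩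
    · rw [form_add, form_smul, hQr, hQp, polar_smul_right, hrp, smul_eq_mul]
      ring
    · rw [polar_add_right, polar_smul_right, hrr, hrp, smul_eq_mul]
      ring
    · rw [polar_add_right, polar_smul_right, polar_comm Q p r, hrp, polar_self_eq, hQp]
      simp
    · rw [polar_add_right, polar_smul_right, polar_comm Q a r, hra, polar_comm Q a p, hap]
      simp
  refine ⟨a', ha', by rw [hQa']; exact neg_ne_zero.mpr hQa, fun v hv hQv => ?_, hz a' ha'⟩
  by_cases hzero : polar Q v a' = 0
  · exact Or.inl hzero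
  refine Or.inr ?_
  -- `w = v - s a'` is singular and orthogonal to `a'`, hence zero
  have ha'a' : polar Q a' a' = ε := by
    rw [polar_self_eq, hQa']
    linear_combination -ε * h3
  obtain ⟨s, hs, hsv⟩ : ∃ s : F, s * s = 1 ∧ polar Q v a' = s * ε := by
    refine ⟨polar Q v a' * ε, ?_, ?_⟩
    · linear_combination (polar Q v a' * polar Q v a') * hεε + sq_eq_one_of_three hq hzero
    · linear_combination -(polar Q v a') * hεε
  obtain ⟨α, β, γ, hw⟩ := hspan (v + (-s) • a') (add_mem hv (W.smul_mem _ ha'))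
  have hwa : polar Q (v + (-s) • a') a' = 0 := by
    rw [polar_add_left, polar_smul_left, ha'a', hsv, smul_eq_mul]
    ring
  have hQw : Q (v + (-s) • a') = 0 := by
    rw [form_add, form_smul, hQv, hQa', polar_smul_right, hsv, smul_eq_mul]
    linear_combination -(2 * ε) * hs - ε * h3
  rw [← hw, polar_add_left, polar_add_left, polar_smul_left, polar_smul_left, polar_smul_left,
    ha'r, ha'p, ha'a, smul_eq_mul, smul_eq_mul, smul_eq_mul] at hwa
  rw [← hw, form_add, form_add, form_smul, form_smul, form_smul, hQr, hQp, polar_smul_left,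
    polar_smul_right, polar_comm Q a r, hra, polar_add_left, polar_smul_left, polar_smul_left,
    polar_smul_right, polar_smul_right, polar_comm Q a p, hap, hrp] at hQw
  simp only [smul_eq_mul, mul_zero, zero_add, add_zero, mul_one] at hQw
  have hγ : γ = β * ε := by linear_combination hwa
  have hsum : α * α + β * β = 0 := by
    have : ε * (α * α + β * β) = 0 := by rw [hγ] at hQw; linear_combination hQw
    exact (mul_eq_zero.mp this).resolve_left hQa
  have hzeros : α = 0 ∧ β = 0 := by
    by_cases hα : α = 0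
    · exact ⟨hα, mul_self_eq_zero.mp (by rw [hα] at hsum; linear_combination hsum)⟩
    by_cases hβ : β = 0
    · rw [hβ, mul_zero, add_zero] at hsum
      exact absurd (mul_self_eq_zero.mp hsum) hα
    rw [sq_eq_one_of_three hq hα, sq_eq_one_of_three hq hβ] at hsum
    exact absurd (by linear_combination hsum) h2
  obtain ⟨rfl, rfl⟩ := hzeros
  rw [hγ, zero_mul, zero_smul, zero_smul, zero_smul, zero_add, zero_add] at hw
  have hveq : v = s • a' := by
    rw [neg_smul, ← sub_eq_add_neg, eq_comm, sub_eq_zero] at hw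
    exact hw
  rcases eq_one_or_neg_one hs with rfl | rfl
  · exact Or.inl (by rw [hveq, one_smul])
  · exact Or.inr (by rw [hveq, neg_one_smul])

end Cfsg.Agent.NotMax

namespace Cfsg.Agent.NotMax

open QuadraticMap Cfsg.Agent.UnitaryOrthogonal Matrix

variable {ι : Type} [Fintype ι] [DecidableEq ι] {F : Type*} [Field F] [Fintype F]
variable {Q : QuadraticForm F (ι → F)}

/-- The cases over three elements. -/
theorem three_between (hnd : PolarND Q) (hq : Fintype.card F = 3) {t k : ℕ}
    (hk : k = 2 ∨ k = 3) {D : Fin t → Submodule F (ι → F)}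
    (hD : Geo.IsOrthogonalMDecomposition ⇑Q k D) (hn : 13 ≤ Fintype.card ι) :
    ∃ K : Subgroup (GL ι F),
      Geo.decompositionStabilizer D ⊓ Geo.omegaGL ⇑Q < K ∧ K < Geo.omegaGL ⇑Q := by
  have hcard := finrank_le_sum hD.decomp.decomp
  have ht : 5 ≤ t := by rcases hk with rfl | rfl <;> omega
  obtain ⟨a, ha⟩ : ∃ a, Good Q (D ⟨0, by omega⟩) a := by
    rcases hk with rfl | rfl
    · exact good_plane_three hq (hD.decomp.decomp.finrank_eq _) (hD.decomp.nondegenerate _)
    · exact good_space_three hq (hD.decomp.decomp.finrank_eq _) (hD.decomp.nondegenerate _)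
  refine frame_between hnd (two_ne_zero_of_three hq) hD ht ha ![1, 1, 1, 1, 0] ?_ ?_ ?_
  · simp [Fin.sum_univ_five]
    linear_combination three_eq_zero hq
  · simp
  · simp

/-- Plus planes over five elements. -/
theorem five_between (hnd : PolarND Q) (hq : Fintype.card F = 5) {t : ℕ}
    {D : Fin t → Submodule F (ι → F)} (hD : Geo.IsOrthogonalMDecomposition ⇑Q 2 D)
    (hp : ∀ i, Geo.IsPlusTypeOn ⇑Q (D i)) (hn : 13 ≤ Fintype.card ι) :
    ∃ K : Subgroup (GL ι F),
      Geo.decompositionStabilizer D ⊓ Geo.omegaGL ⇑Q < K ∧ K < Geo.omegaGL ⇑Q := by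
  have hcard := finrank_le_sum hD.decomp.decomp
  have ht : 5 ≤ t := by omega
  have h5 : (5 : F) = 0 := by simpa [hq] using FiniteField.cast_card_eq_zero (K := F)
  have h2 : (2 : F) ≠ 0 := fun h => one_ne_zero (α := F) (by linear_combination h5 - 2 * h)
  obtain ⟨a, ha⟩ := good_plane_five hq (hD.decomp.decomp.finrank_eq ⟨0, by omega⟩)
    (hD.decomp.nondegenerate _) (hp _)
  refine frame_between hnd h2 hD ht ha ![1, 1, 2, 0, 0] ?_ ?_ ?_
  · simp [Fin.sum_univ_five]
    linear_combination h5
  · simp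
  · simp [h2]

end Cfsg.Agent.NotMax
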