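import Cfsg.Agent.Classical10.NotMax.Tensor
import Cfsg.Agent.Classical10.NotMax.FrameBase

/-!
The three-dimensional symmetric forms over three elements, and the resulting non-maximal stabilisers.
-/

set_option autoImplicit false

namespace Cfsg.Agent.NotMax

open Matrix QuadraticMap Cfsg.Agent.UnitaryOrthogonal

variable {F : Type*} [Field F] [Fintype F]

theorem form_eq_dot {κ : Type} [Fintype κ] [DecidableEq κ] {f : (κ → F) → (κ → F) → F}
    (hf : Geo.IsBilinearForm f) (x x' : κ → F) :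
    f x x' = x ⬝ᵥ (Geo.gramMatrix f *ᵥ x') := by
  rw [eq_formOfGram (RingHom.id F) hf.add_left hf.smul_left hf.add_right hf.smul_right]
  simp [Geo.formOfGram, dotProduct, mulVec, Finset.mul_sum, mul_assoc]

/-- Scale factor one and a frame vector, for a symmetric form on three coordinates. -/
theorem symm_three_facts (hq : Fintype.card F = 3) {f₁ : (Fin 3 → F) → (Fin 3 → F) → F}
    (hf : Geo.IsSymmetricForm f₁) :
    (∀ (A : GL (Fin 3) F) (μ : F), (∀ x x', f₁ ((A : Matrix _ _ F) *ᵥ x) ((A : Matrix _ _ F) *ᵥ x') =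
      μ * f₁ x x') → μ = 1) ∧
    ∃ a w : Fin 3 → F, f₁ a a ≠ 0 ∧ f₁ w w ≠ 0 ∧ f₁ a w = 0 ∧ f₁ w a = 0 ∧
      ∀ u, f₁ u u = f₁ a a → f₁ u a = 0 ∨ ∃ r : F, r • a = u := by
  have hb := hf.bilinear
  have h2 := two_ne_zero_of_three hq
  set G := Geo.gramMatrix f₁ with hG
  have hdet : G.det ≠ 0 := by
    intro h
    obtain ⟨v, hv, hGv⟩ := Matrix.exists_mulVec_eq_zero_iff.mpr h
    obtain ⟨x, hx⟩ := (hf.nondegenerate v hv).1
    exact hx (by rw [form_eq_dot hb, ← hG, hGv, dotProduct_zero])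
  refine ⟨fun A μ hA => ?_, ?_⟩
  · have hmat : (A : Matrix _ _ F)ᵀ * G * (A : Matrix _ _ F) = μ • G := by
      ext i j
      have h := hA (Pi.single i 1) (Pi.single j 1)
      rw [form_eq_dot hb, form_eq_dot hb, ← hG, mulVec_single_one, mulVec_single_one,
        mulVec_single_one, single_dotProduct, one_mul] at h
      rw [Matrix.smul_apply, smul_eq_mul, ← show G.col j i = G i j from rfl, ← h]
      simp only [mul_apply, mulVec, dotProduct, transpose_apply, col_apply, Finset.mul_sum,
        Finset.sum_mul]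
      rw [Finset.sum_comm]
      exact Finset.sum_congr rfl fun a _ => Finset.sum_congr rfl fun b _ => by ring
    have h := congrArg Matrix.det hmat
    rw [det_mul, det_mul, det_transpose, det_smul, Fintype.card_fin] at h
    have hA0 : (A : Matrix _ _ F).det ≠ 0 := fun h0 =>
      (Matrix.GeneralLinearGroup.det A).ne_zero (by simpa using h0)
    have hμ3 : μ ^ 3 = 1 := by
      refine mul_right_cancel₀ hdet ?_
      linear_combination -h + G.det * sq_eq_one_of_three hq hA0
    have hμ0 : μ ≠ 0 := fun h0 => by rw [h0] at hμ3; norm_num at hμ3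
    linear_combination hμ3 - μ * sq_eq_one_of_three hq hμ0
  · obtain ⟨Q₁, hQ⟩ : ∃ Q₁ : QuadraticForm F (Fin 3 → F), ∀ v, Q₁ v = f₁ v v :=
      ⟨QuadraticMap.ofPolar (fun v => f₁ v v)
        (fun r x => by simp only [hb.smul_left, hb.smul_right, smul_eq_mul]; ring)
        (fun x x' y => by simp only [QuadraticMap.polar, hb.add_left, hb.add_right]; ring)
        (fun r x y => by
          simp only [QuadraticMap.polar, hb.add_left, hb.add_right, hb.smul_left, hb.smul_right,
            smul_eq_mul]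
          ring), fun v => rfl⟩
    have hpolar : ∀ x y, polar Q₁ x y = 2 * f₁ x y := fun x y => by
      simp only [polar, hQ, hb.add_left, hb.add_right, hf.symm y x]
      ring
    obtain ⟨a, -, hQa, hu, z, -, hz0, hza⟩ := good_space_three (Q := Q₁) hq
      (W := ⊤) (by rw [finrank_top, Module.finrank_fintype_fun_eq_card, Fintype.card_fin])
      (fun v _ hv => by
        refine ⟨?_, ?_⟩
        · obtain ⟨x, hx⟩ := (hf.nondegenerate v hv).1
          exact ⟨x, trivial, by rw [hpolar]; exact mul_ne_zero h2 hx⟩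
        · obtain ⟨x, hx⟩ := (hf.nondegenerate v hv).2
          exact ⟨x, trivial, by rw [hpolar]; exact mul_ne_zero h2 hx⟩)
    have hza' : f₁ z a = 0 := by
      rw [hpolar] at hza
      exact (mul_eq_zero.mp hza).resolve_left h2
    refine ⟨a, z, by rwa [← hQ], fun h0 => ?_, by rw [hf.symm, hza'], hza', fun u hu' => ?_⟩
    · -- `a + z` would be a frame vector
      rcases hu (a + z) trivial (by rw [hQ, hQ]; simp [hb.add_left, hb.add_right, hf.symm a z, hza', h0])
        with h | h | h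
      · rw [hpolar, hb.add_left, hza', add_zero, ← hQ] at h
        exact mul_ne_zero h2 hQa h
      · exact hz0 (add_eq_left.mp h)
      · have h' := congrArg (fun x => f₁ x a) h
        simp only [hb.add_left, hza', add_zero] at h'
        rw [← neg_one_smul F a, hb.smul_left, ← hQ] at h'
        exact mul_ne_zero h2 hQa (by linear_combination h')
    · rcases hu u trivial (by rw [hQ, hQ, hu']) with h | h | h
      · rw [hpolar] at h
        exact Or.inl ((mul_eq_zero.mp h).resolve_left h2)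
      · exact Or.inr ⟨1, by rw [one_smul, h]⟩
      · exact Or.inr ⟨-1, by rw [neg_one_smul, h]⟩

variable {ι : Type} [Fintype ι] [DecidableEq ι]

/-- The orthogonal group of the tensor product with a three-dimensional factor. -/
theorem orth_tensor_between {Q : QuadraticForm F (ι → F)} (hnd : PolarND Q)
    (hq : Fintype.card F = 3) (h5 : 5 ≤ Fintype.card ι) {n₂ : ℕ} (hn₂ : 3 ≤ n₂)
    (e : ι ≃ Fin 3 × Fin n₂) (P : GL ι F) {f₁ : (Fin 3 → F) → (Fin 3 → F) → F}
    {f₂ : (Fin n₂ → F) → (Fin n₂ → F) → F} (hf₁ : Geo.IsSymmetricForm f₁)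
    (hf₂ : Geo.IsSymmetricForm f₂) (hT : Geo.IsTensorFormStructure id (polar ⇑Q) f₁ f₂ e P) :
    ∃ K : Subgroup (GL ι F),
      Geo.tensorProductSubgroup 3 n₂ e P ⊓ Geo.omegaGL ⇑Q < K ∧ K < Geo.omegaGL ⇑Q := by
  obtain ⟨hμ, a, w, haa, hww, haw, hwa, hS⟩ := symm_three_facts hq hf₁
  obtain ⟨c, hc, hT⟩ := hT
  have h2 := two_ne_zero_of_three hq
  have hb₁ := hf₁.bilinear
  have hb₂ := hf₂.bilinear
  have hτ : ∀ x y x' y', polar Q (ten e P x y) (ten e P x' y') = c * f₁ x x' * f₂ y y' :=
    fun x y x' y' => form_ten (σ := RingHom.id F) hT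
      (eq_formOfGram _ hb₁.add_left hb₁.smul_left hb₁.add_right hb₁.smul_right)
      (eq_formOfGram _ hb₂.add_left hb₂.smul_left hb₂.add_right hb₂.smul_right) x x' y y'
  -- a singular vector, and vectors next to it
  obtain ⟨Q₂, hQ₂⟩ : ∃ Q₂ : QuadraticForm F (Fin n₂ → F), ∀ v, Q₂ v = f₂ v v :=
    ⟨QuadraticMap.ofPolar (fun v => f₂ v v)
      (fun r x => by simp only [hb₂.smul_left, hb₂.smul_right, smul_eq_mul]; ring)
      (fun x x' y => by simp only [QuadraticMap.polar, hb₂.add_left, hb₂.add_right]; ring)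
      (fun r x y => by
        simp only [QuadraticMap.polar, hb₂.add_left, hb₂.add_right, hb₂.smul_left, hb₂.smul_right,
          smul_eq_mul]
        ring), fun v => rfl⟩
  obtain ⟨e₀, -, he₀, hQe⟩ := OrthStab.exists_singular_mem (Q := Q₂) ⊤
    (by rwa [finrank_top, Module.finrank_fintype_fun_eq_card, Fintype.card_fin])
  rw [hQ₂] at hQe
  obtain ⟨y, hy⟩ := (hf₂.nondegenerate e₀ he₀).2
  obtain ⟨z, hz0, hez, hyz⟩ : ∃ z, z ≠ 0 ∧ f₂ e₀ z = 0 ∧ f₂ y z = 0 := by
    let φ : (Fin n₂ → F) →ₗ[F] F × F :=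
      LinearMap.prod (MaxSub.rmap hb₂ e₀) (MaxSub.rmap hb₂ y)
    have h := LinearMap.finrank_range_add_finrank_ker φ
    have hle : Module.finrank F (LinearMap.range φ) ≤ 2 :=
      (Submodule.finrank_le _).trans_eq (by simp)
    rw [Module.finrank_fintype_fun_eq_card, Fintype.card_fin] at h
    obtain ⟨z, hz, hz0⟩ := Submodule.exists_mem_ne_zero_of_ne_bot
      (show LinearMap.ker φ ≠ ⊥ from fun e => by rw [e, finrank_bot] at h; omega)
    have hz' := LinearMap.mem_ker.mp hz
    exact ⟨z, hz0, congrArg Prod.fst hz', congrArg Prod.snd hz'⟩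
  have hye : f₂ y e₀ ≠ 0 := by rwa [hf₂.symm]
  have hsingle : ∀ r : F, r • z ≠ e₀ := fun r h => by
    have h' := congrArg (f₂ y) h
    rw [hb₂.smul_right, hyz, mul_zero] at h'
    exact hye h'.symm
  have hQu : Q (ten e P a e₀) = 0 := by
    have h := hτ a e₀ a e₀
    rw [hQe, mul_zero, polar_self_eq] at h
    exact (mul_eq_zero.mp h).resolve_left h2
  obtain ⟨g, hg, hgx⟩ := exists_omega_eich hnd h5 hQu (z := ten e P a z) (by rw [hτ, hez, mul_zero])
  obtain ⟨g', hg', hgx'⟩ := exists_omega_eich hnd h5 hQu (z := ten e P w z) (by rw [hτ, hez, mul_zero])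
  refine tensor_between (f := polar ⇑Q) (f₁ := f₁) (f₂ := f₂) (polar_add_left Q) hb₂.add_left
    hb₂.smul_left hf₂.nondegenerate (ten e P) hc hτ (fun g hg => omega_map_polar hg)
    (fun g hg => exists_of_mem_tensorProductSubgroup hg) hμ haa hww haw hwa hS hg
    (fun u v hu => ?_) (fun v => ?_) ⟨y, ?_⟩ hg' ⟨y, ?_⟩
  · have hau : f₁ a u = 0 := by rw [hf₁.symm]; exact hu
    rw [hgx, hτ, hτ, hau]
    simp
  · refine ⟨v + (c * f₁ a a * f₂ e₀ v) • z -
      ((c * f₁ a a * f₂ z v) + Q (ten e P a z) * (c * f₁ a a * f₂ e₀ v)) • e₀, ?_⟩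
    rw [hgx, hτ, hτ]
    simp only [map_sub, map_add, map_smul, add_smul, sub_sub]
  · set k := c * f₁ a a * f₂ e₀ y with hk
    set l := Q (ten e P a z) * k with hl
    refine ⟨y + k • z - l • e₀, fun h => hye (by rw [h, MaxSub.form_zero_left hb₂]), ?_, fun r hr => ?_⟩
    · rw [hgx, hτ, hτ, hf₂.symm z y, hyz, mul_zero, zero_smul, sub_zero, ← hk, ← hl]
      simp only [map_sub, map_add, map_smul]
    · have h := congrArg (fun x => f₂ x e₀) hr
      simp only [hb₂.smul_left, hb₂.add_left, MaxSub.form_sub_left hb₂, hQe, hf₂.symm z e₀, hez,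
        mul_zero, add_zero, sub_zero] at h
      have hr1 : r = 1 := mul_right_cancel₀ hye (by rw [one_mul, h])
      rw [hr1, one_smul, add_sub_assoc, left_eq_add, sub_eq_zero] at hr
      have h0 : l ≠ 0 := fun h0 => by
        rw [h0, zero_smul, smul_eq_zero] at hr
        exact hr.elim (mul_ne_zero (mul_ne_zero hc haa) hy) hz0
      exact hsingle (l⁻¹ * k) (by rw [← smul_smul, hr, smul_smul, inv_mul_cancel₀ h0, one_smul])
  · set k := c * f₁ a a * f₂ e₀ y with hk
    set l := Q (ten e P w z) * k with hl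
    have hk0 : k ≠ 0 := mul_ne_zero (mul_ne_zero hc haa) hy
    refine ⟨y - l • e₀, k • z, ?_, smul_ne_zero hk0 hz0, fun r hr => ?_⟩
    · rw [hgx', hτ, hτ, hwa, mul_zero, zero_mul, zero_smul, sub_zero, ← hk, ← hl]
      simp only [map_sub, map_smul]
      abel
    · have h := congrArg (fun x => f₂ x e₀) hr
      simp only [hb₂.smul_left, MaxSub.form_sub_left hb₂, hQe, hf₂.symm z e₀, hez, mul_zero,
        sub_zero] at h
      exact hye h.symm

end Cfsg.Agent.NotMax
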