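import Cfsg.Agent.Classical10.NotMax.Tensor

/-!
Tensor decompositions with a two-dimensional factor over two elements: the normaliser of the
structure over four elements lies above the stabiliser.
-/

set_option autoImplicit false

namespace Cfsg.Agent.NotMax

open Matrix
open scoped Kronecker

variable {ι : Type} [Fintype ι] [DecidableEq ι] {F : Type*} [Field F] {n₁ n₂ : ℕ}

theorem ten_induction (e : ι ≃ Fin n₁ × Fin n₂) (P : GL ι F) {p : (ι → F) → Prop} (h0 : p 0)
    (hadd : ∀ x y, p x → p y → p (x + y)) (hten : ∀ u v, p (ten e P u v)) (x : ι → F) : p x := by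
  classical
  set w := ((P⁻¹ : GL ι F) : Matrix ι ι F) *ᵥ x with hw
  have hx : x = ∑ i, ten e P (w i • Pi.single (e i).1 1) (Pi.single (e i).2 1) := by
    have hsum : w = ∑ i, ((fun a : Fin n₁ × Fin n₂ =>
        (w i • Pi.single (e i).1 (1 : F) : Fin n₁ → F) a.1 *
          (Pi.single (e i).2 (1 : F) : Fin n₂ → F) a.2) ∘ e) := by
      ext j
      rw [Finset.sum_apply, Finset.sum_eq_single j]
      · simp
      · intro i _ hij
        simp only [Function.comp_apply, Pi.smul_apply, Pi.single_apply, smul_eq_mul]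
        by_cases h1 : (e j).1 = (e i).1
        · have h2 : (e j).2 ≠ (e i).2 := fun h2 => hij (e.injective (Prod.ext h1.symm h2.symm))
          simp [h2]
        · simp [h1]
      · simp
    simp only [ten_apply]
    rw [← mulVec_sum, ← hsum, hw, MaxSub.mulVec_inv_mulVec]
  rw [hx]
  exact Finset.sum_induction _ p hadd h0 fun i _ => hten _ _

theorem ext_ten (e : ι ≃ Fin n₁ × Fin n₂) (P : GL ι F) {g h : GL ι F}
    (H : ∀ u v, (g : Matrix ι ι F) *ᵥ ten e P u v = (h : Matrix ι ι F) *ᵥ ten e P u v) : g = h :=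
  MaxSub.gl_ext fun x => ten_induction e P (p := fun x =>
      (g : Matrix ι ι F) *ᵥ x = (h : Matrix ι ι F) *ᵥ x) (by simp)
    (fun x y hx hy => by simp only [mulVec_add, hx, hy]) H x

/-- The elements conjugating `X` to itself or to its square, for `X` of order three. -/
def sqStab {G : Type*} [Group G] (X : G) (hX : X ^ 4 = X) : Subgroup G where
  carrier := {g | g * X * g⁻¹ = X ∨ g * X * g⁻¹ = X ^ 2}
  one_mem' := Or.inl (by simp)
  mul_mem' {g h} hg hh := by
    have e : ∀ k : ℕ, g * X ^ k * g⁻¹ = (g * X * g⁻¹) ^ k := fun k => conj_pow.symm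
    rcases hh with hh | hh <;>
      simp only [Set.mem_ofPred_eq, _root_.mul_inv_rev,
        show g * h * X * (h⁻¹ * g⁻¹) = g * (h * X * h⁻¹) * g⁻¹ by group, hh]
    · exact hg
    · rw [e]
      rcases hg with hg | hg <;> rw [hg]
      · exact Or.inr rfl
      · exact Or.inl (by rw [← pow_mul]; exact hX)
  inv_mem' {g} hg := by
    rcases hg with hg | hg
    · exact Or.inl (by nth_rewrite 1 [← hg]; group)
    · refine Or.inr ?_
      rw [inv_inv]
      have h2 : g * X ^ 2 * g⁻¹ = X := by rw [← conj_pow, hg, ← pow_mul, hX]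
      nth_rewrite 1 [← h2]
      group

theorem mem_sqStab {G : Type*} [Group G] {X : G} {hX : X ^ 4 = X} {g : G} :
    g ∈ sqStab X hX ↔ g * X = X * g ∨ g * X = X ^ 2 * g :=
  or_congr mul_inv_eq_iff_eq_mul mul_inv_eq_iff_eq_mul

/-- The order-three element on the two-dimensional factor. -/
def jMat (F : Type*) [Field F] : Matrix (Fin 2) (Fin 2) F := !![0, 1; 1, 1]

theorem jMat_sq (h2 : (2 : F) = 0) : jMat F * jMat F = jMat F + 1 := by
  ext i j
  fin_cases i <;> fin_cases j <;> simp [jMat, Matrix.mul_apply, Fin.sum_univ_two]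

theorem jMat_conj [Fintype F] (hq : Fintype.card F = 2) (A : GL (Fin 2) F) :
    (A : Matrix (Fin 2) (Fin 2) F) * jMat F = jMat F * (A : Matrix (Fin 2) (Fin 2) F) ∨
      (A : Matrix (Fin 2) (Fin 2) F) * jMat F =
        (jMat F + 1) * (A : Matrix (Fin 2) (Fin 2) F) := by
  have h2 := two_eq_zero hq
  have hdet : (A : Matrix (Fin 2) (Fin 2) F).det ≠ 0 := fun h0 =>
    (Matrix.GeneralLinearGroup.det A).ne_zero (by simpa using h0)
  rw [Matrix.det_fin_two] at hdet
  set M := (A : Matrix (Fin 2) (Fin 2) F)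
  rcases zero_or_one hq (M 0 0) with a | a <;> rcases zero_or_one hq (M 0 1) with b | b <;>
    rcases zero_or_one hq (M 1 0) with c | c <;> rcases zero_or_one hq (M 1 1) with d | d <;>
    simp [a, b, c, d] at hdet <;>
    first
      | (refine Or.inl ?_
         ext i j
         fin_cases i <;> fin_cases j <;>
           simp [jMat, Matrix.mul_apply, Fin.sum_univ_two, a, b, c, d] <;>
           first | linear_combination h2 | linear_combination -h2
         done)
      | (refine Or.inr ?_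
         ext i j
         fin_cases i <;> fin_cases j <;>
           simp [jMat, Matrix.mul_apply, Fin.sum_univ_two, a, b, c, d] <;>
           first | linear_combination h2 | linear_combination -h2
         done)

/-- `φ g₀` for a model matrix. -/
noncomputable def ofModel (e : ι ≃ Fin n₁ × Fin n₂) (P : GL ι F)
    (g₀ : GL (Fin n₁ × Fin n₂) F) : GL ι F :=
  MulAut.conj P (Geo.glReindex e.symm g₀)

theorem ofModel_mulVec (e : ι ≃ Fin n₁ × Fin n₂) (P : GL ι F) (g₀ : GL (Fin n₁ × Fin n₂) F)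
    (u : Fin n₁ → F) (v : Fin n₂ → F) :
    (ofModel e P g₀ : Matrix ι ι F) *ᵥ ten e P u v = (P : Matrix ι ι F) *ᵥ
      (((g₀ : Matrix _ _ F) *ᵥ fun a : Fin n₁ × Fin n₂ => u a.1 * v a.2) ∘ e) := by
  simp only [ofModel, ten_apply, MulAut.conj_apply, Units.val_mul]
  rw [← mulVec_mulVec, ← mulVec_mulVec, MaxSub.inv_mulVec_mulVec]
  congr 1
  show (Matrix.reindex e.symm e.symm (g₀ : Matrix _ _ F)) *ᵥ _ = _
  rw [Matrix.reindex_apply, Matrix.submatrix_mulVec_equiv]
  simp only [Equiv.symm_symm, Function.comp_assoc, Equiv.self_comp_symm, Function.comp_id]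

theorem kronecker_mulVec (A : Matrix (Fin n₁) (Fin n₁) F) (B : Matrix (Fin n₂) (Fin n₂) F)
    (u : Fin n₁ → F) (v : Fin n₂ → F) :
    ((A ⊗ₖ B) *ᵥ fun a : Fin n₁ × Fin n₂ => u a.1 * v a.2) =
      fun a : Fin n₁ × Fin n₂ => (A *ᵥ u) a.1 * (B *ᵥ v) a.2 := by
  ext ⟨i, j⟩
  simp only [mulVec, dotProduct, kroneckerMap_apply, Fintype.sum_prod_type, Finset.sum_mul_sum]
  exact Finset.sum_congr rfl fun a _ => Finset.sum_congr rfl fun b _ => by ring

/-- The structure element: acts as `jMat` on the first factor. -/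
theorem exists_structure [Fintype F] (hq : Fintype.card F = 2) (e : ι ≃ Fin 2 × Fin n₂) (P : GL ι F) :
    ∃ (X : GL ι F) (hX : X ^ 4 = X),
      (∀ u v, (X : Matrix ι ι F) *ᵥ ten e P u v = ten e P (jMat F *ᵥ u) v) ∧
      Geo.tensorProductSubgroup 2 n₂ e P ≤ sqStab X hX := by
  have h2 := two_eq_zero hq
  let j : GL (Fin 2) F := ⟨jMat F, jMat F + 1,
    by rw [mul_add, mul_one, jMat_sq h2]; ext a b; simp [add_comm, add_left_comm]; linear_combination (jMat F a b) * h2,
    by rw [add_mul, one_mul, jMat_sq h2]; ext a b; simp [add_comm, add_left_comm]; linear_combination (jMat F a b) * h2⟩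
  let x₀ : GL (Fin 2 × Fin n₂) F := ⟨(j : Matrix _ _ F) ⊗ₖ 1, ((j⁻¹ : GL (Fin 2) F) : Matrix _ _ F) ⊗ₖ 1,
    by rw [← mul_kronecker_mul, Units.mul_inv, one_mul, one_kronecker_one],
    by rw [← mul_kronecker_mul, Units.inv_mul, one_mul, one_kronecker_one]⟩
  set X := ofModel e P x₀ with hXdef
  have hXu : ∀ u v, (X : Matrix ι ι F) *ᵥ ten e P u v = ten e P (jMat F *ᵥ u) v := fun u v => by
    rw [hXdef, ofModel_mulVec, show (x₀ : Matrix (Fin 2 × Fin n₂) (Fin 2 × Fin n₂) F) = jMat F ⊗ₖ 1 from rfl, kronecker_mulVec,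
      one_mulVec, ten_apply]
  have hX2 : ∀ u v, ((X ^ 2 : GL ι F) : Matrix ι ι F) *ᵥ ten e P u v =
      ten e P ((jMat F + 1) *ᵥ u) v := fun u v => by
    rw [pow_two, Units.val_mul, ← mulVec_mulVec, hXu, hXu, mulVec_mulVec, jMat_sq h2]
  have hX : X ^ 4 = X := ext_ten e P fun u v => by
    rw [show X ^ 4 = X ^ 2 * X ^ 2 from by rw [← pow_add], Units.val_mul, ← mulVec_mulVec, hX2, hX2,
      hXu, mulVec_mulVec]
    rw [show (jMat F + 1) * (jMat F + 1) = jMat F by
      rw [add_mul, one_mul, mul_add, mul_one, jMat_sq h2]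
      ext a b
      simp only [Matrix.add_apply]
      linear_combination ((jMat F) a b + (1 : Matrix (Fin 2) (Fin 2) F) a b) * h2]
  refine ⟨X, hX, hXu, fun g hg => mem_sqStab.mpr ?_⟩
  obtain ⟨A, B, hAB⟩ := exists_of_mem_tensorProductSubgroup hg
  rcases jMat_conj hq A with h | h
  · refine Or.inl (ext_ten e P fun u v => ?_)
    rw [Units.val_mul, Units.val_mul, ← mulVec_mulVec, ← mulVec_mulVec, hXu, hAB, hAB, hXu,
      mulVec_mulVec, mulVec_mulVec, h]
  · refine Or.inr (ext_ten e P fun u v => ?_)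
    rw [Units.val_mul, Units.val_mul, ← mulVec_mulVec, ← mulVec_mulVec, hXu, hAB, hAB, hX2,
      mulVec_mulVec, mulVec_mulVec, h]

end Cfsg.Agent.NotMax
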