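import Cfsg.Agent.Classical10.NotMax.Tensor

/-!
Unitary forms over the field with four elements, and two-dimensional frames.
-/

set_option autoImplicit false

namespace Cfsg.Agent.NotMax

open Matrix

variable {F : Type*} [Field F] [Fintype F]

theorem exists_frobenius (hF : Fintype.card F = 4) :
    ∃ σ : F ≃+* F, (∀ x, σ x = x ^ 2) ∧ σ ≠ RingEquiv.refl F ∧ (∀ x, σ (σ x) = x) ∧ (2 : F) = 0 := by
  classical
  have h2 : (2 : F) = 0 := by
    have := FiniteField.cast_card_eq_zero (K := F)
    rw [hF, show ((4 : ℕ) : F) = 2 * 2 by norm_num] at this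
    exact mul_self_eq_zero.mp this
  haveI : CharP F 2 := CharTwo.of_one_ne_zero_of_two_eq_zero one_ne_zero h2
  refine ⟨RingEquiv.ofBijective (frobenius F 2) (Finite.injective_iff_bijective.mp (frobenius_inj F 2)),
    fun x => frobenius_def 2 x, fun h => ?_, fun x => ?_, h2⟩
  · obtain ⟨x, hx⟩ : ∃ x : F, x ∉ ({0, 1} : Finset F) := by
      by_contra h
      simp only [not_exists, not_not] at h
      have := Finset.card_le_card (fun x _ => h x : (Finset.univ : Finset F) ⊆ {0, 1})
      rw [Finset.card_univ, hF, Finset.card_pair zero_ne_one] at this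
      omega
    apply hx
    have h1 : x ^ 2 = x := (frobenius_def 2 x).symm.trans (RingEquiv.congr_fun h x)
    rcases mul_eq_zero.mp (show x * (x - 1) = 0 by linear_combination h1) with h | h
    · simp [h]
    · simp [sub_eq_zero.mp h]
  · show frobenius F 2 (frobenius F 2 x) = x
    rw [frobenius_def, frobenius_def, ← pow_mul]
    simpa [hF] using FiniteField.pow_card x

theorem isUnitaryForm_hermForm_two (hF : Fintype.card F = 4) {σ : F ≃+* F} (hσ : ∀ x, σ x = x ^ 2)
    (hne : σ ≠ RingEquiv.refl F) (hinv : ∀ x, σ (σ x) = x) (n : ℕ) :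
    Geo.IsUnitaryForm σ (hermForm n F 2) :=
  { ne_refl := hne
    involutive := hinv
    add_left := fun x y v => by simp [hermForm, add_mul, Finset.sum_add_distrib]
    smul_left := fun c x v => by simp [hermForm, Finset.mul_sum, mul_assoc]
    herm := fun v w => by
      simp only [hermForm, map_sum, map_mul, ← hσ, hinv]
      exact Finset.sum_congr rfl fun i _ => mul_comm _ _
    nondegenerate := fun v hv => by
      obtain ⟨i, hi⟩ := Function.ne_iff.mp hv
      constructor <;> refine ⟨Pi.single i 1, ?_⟩ <;>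
        simpa [hermForm, Pi.single_apply] using hi }

variable {ι : Type} [Fintype ι] [DecidableEq ι] {σ : F ≃+* F} {f : (ι → F) → (ι → F) → F}

theorem self_zero_or_one (hσ : ∀ x, σ x = x ^ 2) (hf : Geo.IsUnitaryForm σ f) (x : ι → F) :
    f x x = 0 ∨ f x x = 1 := by
  have h := hf.herm x x
  rw [hσ] at h
  rcases mul_eq_zero.mp (show f x x * (f x x - 1) = 0 by linear_combination -h) with h | h
  · exact Or.inl h
  · exact Or.inr (sub_eq_zero.mp h)

theorem exists_isotropic_vec (hσ : ∀ x, σ x = x ^ 2) (hf : Geo.IsUnitaryForm σ f) (h2 : (2 : F) = 0)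
    (hn : 2 ≤ Fintype.card ι) : ∃ z : ι → F, z ≠ 0 ∧ f z z = 0 := by
  haveI : Nonempty ι := Fintype.card_pos_iff.mp (by omega)
  obtain ⟨y, hy⟩ := exists_ne (0 : ι → F)
  rcases self_zero_or_one hσ hf y with hyy | hyy
  · exact ⟨y, hy, hyy⟩
  have h := LinearMap.finrank_range_add_finrank_ker (MaxSub.hl hf y)
  have hle : Module.finrank F (LinearMap.range (MaxSub.hl hf y)) ≤ 1 :=
    (Submodule.finrank_le _).trans_eq (Module.finrank_self F)
  rw [Module.finrank_fintype_fun_eq_card] at h
  obtain ⟨y', hy', hy'0⟩ := Submodule.exists_mem_ne_zero_of_ne_bot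
    (show LinearMap.ker (MaxSub.hl hf y) ≠ ⊥ from fun e => by rw [e, finrank_bot] at h; omega)
  have hy'y : f y' y = 0 := LinearMap.mem_ker.mp hy'
  rcases self_zero_or_one hσ hf y' with h' | h'
  · exact ⟨y', hy'0, h'⟩
  refine ⟨y + y', fun h0 => ?_, ?_⟩
  · have := congrArg (fun x => f x y) h0
    simp [hf.add_left, hyy, hy'y, MaxSub.hzero_left hf] at this
  · simp [hf.add_left, MaxSub.hadd_right hf, hyy, h', hy'y, MaxSub.hswap_zero hf hy'y]
    linear_combination h2

theorem unitary_two_facts (hF : Fintype.card F = 4) {f : (Fin 2 → F) → (Fin 2 → F) → F}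
    (hσ : ∀ x, σ x = x ^ 2) (hf : Geo.IsUnitaryForm σ f) (h2 : (2 : F) = 0) :
    (∀ (A : GL (Fin 2) F) (μ : F), (∀ x x', f ((A : Matrix _ _ F) *ᵥ x) ((A : Matrix _ _ F) *ᵥ x') =
      μ * f x x') → μ = 1) ∧
    ∃ a w : Fin 2 → F, f a a ≠ 0 ∧ f w w ≠ 0 ∧ f a w = 0 ∧ f w a = 0 ∧
      ∀ u, f u u = f a a → f u a = 0 ∨ ∃ r : F, r • a = u := by
  obtain ⟨a, ha⟩ : ∃ a, f a a ≠ 0 := by
    by_contra hiso
    simp only [not_exists, not_not] at hiso
    obtain ⟨x, hx⟩ := exists_ne (0 : Fin 2 → F)
    obtain ⟨y, hxy⟩ := (hf.nondegenerate x hx).2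
    obtain ⟨ω, hω⟩ : ∃ ω : F, σ ω ≠ ω := by
      by_contra h
      simp only [not_exists, not_not] at h
      exact hf.ne_refl (RingEquiv.ext h)
    have hc : ∀ c, σ c * f x y + c * f y x = 0 := fun c => by
      have := hiso (x + c • y)
      simpa [hf.add_left, hf.smul_left, MaxSub.hadd_right hf, MaxSub.hsmul_right hf, hiso x,
        hiso y] using this
    have h1 := hc 1
    rw [map_one, one_mul, one_mul] at h1
    rcases mul_eq_zero.mp
      (show (σ ω - ω) * f x y = 0 by linear_combination hc ω - ω * h1) with h | h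
    · exact hω (sub_eq_zero.mp h)
    · exact hxy h
  have haa : f a a = 1 := (self_zero_or_one hσ hf a).resolve_left ha
  have ha0 : a ≠ 0 := fun h => ha (by rw [h, MaxSub.hzero_left hf])
  have h := LinearMap.finrank_range_add_finrank_ker (MaxSub.hl hf a)
  have hle : Module.finrank F (LinearMap.range (MaxSub.hl hf a)) ≤ 1 :=
    (Submodule.finrank_le _).trans_eq (Module.finrank_self F)
  rw [Module.finrank_fintype_fun_eq_card, Fintype.card_fin] at h
  obtain ⟨w, hw, hw0⟩ := Submodule.exists_mem_ne_zero_of_ne_bot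
    (show LinearMap.ker (MaxSub.hl hf a) ≠ ⊥ from fun e => by rw [e, finrank_bot] at h; omega)
  have hwa : f w a = 0 := LinearMap.mem_ker.mp hw
  have haw := MaxSub.hswap_zero hf hwa
  have hspan : ∀ u, ∃ p r : F, p • a + r • w = u := fun u =>
    mem_pair_of_finrank_two (W := ⊤)
      (by rw [finrank_top, Module.finrank_fintype_fun_eq_card, Fintype.card_fin]) trivial trivial ha0
      (fun c hc => hw0 (by
        have h' := hwa
        rw [← hc, hf.smul_left, haa, mul_one] at h'
        rw [← hc, h', zero_smul])) trivial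
  have hww : f w w ≠ 0 := fun h0 => by
    obtain ⟨y, hy⟩ := (hf.nondegenerate w hw0).1
    obtain ⟨p, r, rfl⟩ := hspan y
    exact hy (by simp [hf.add_left, hf.smul_left, haw, h0])
  refine ⟨fun A μ hA => ?_, a, w, ha, hww, haw, hwa, fun u hu => ?_⟩
  · have h' := hA a a
    rw [haa, mul_one] at h'
    rcases self_zero_or_one hσ hf ((A : Matrix _ _ F) *ᵥ a) with h0 | h1
    · exfalso
      obtain ⟨x, hx⟩ := (hf.nondegenerate _ (MaxSub.mulVec_ne_zero A ha0)).1
      rw [← MaxSub.mulVec_inv_mulVec A x, hA, ← h', h0, zero_mul] at hx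
      exact hx rfl
    · exact h'.symm.trans h1
  · obtain ⟨p, r, rfl⟩ := hspan u
    by_cases hp : p = 0
    · exact Or.inl (by simp [hp, hf.smul_left, hwa])
    by_cases hr : r = 0
    · exact Or.inr ⟨p, by simp [hr]⟩
    exfalso
    have h3 : ∀ e : F, e ≠ 0 → e * e ^ 2 = 1 := fun e he => by
      have := FiniteField.pow_card_sub_one_eq_one e he
      rw [hF] at this
      rw [← this]; ring
    have hw1 := (self_zero_or_one hσ hf w).resolve_left hww
    simp [hf.add_left, hf.smul_left, MaxSub.hadd_right hf, MaxSub.hsmul_right hf, haa, hw1, haw,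
      hwa, hσ, h3 p hp, h3 r hr] at hu

end Cfsg.Agent.NotMax
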